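import Groth.Agent.Lib.TorsorNorm25.Complement
import Groth.Agent.Lib.BorelFix21.Component
import Groth.Agent.Lib.OrbitTop19.Closed
import Groth.Agent.Lib.GrpField.Component
import Groth.Agent.Lib.GrpGen20.DomSurj
import Groth.Agent.Lib.AbRigid.Epi

/-!
# An abelian subvariety has a connected quasi-complement
-/

set_option autoImplicit false
set_option linter.style.haveILetI false
set_option backward.isDefEq.respectTransparency false
set_option synthInstance.maxHeartbeats 400000

universe u

open CategoryTheory CategoryTheory.Limits MonoidalCategory CartesianMonoidalCategory MonObj AlgebraicGeometry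
open scoped GrpObj

noncomputable section

namespace Groth.Agent.TorsorNorm25

variable {k : Type u} [Field k] [IsAlgClosed k] {G A : Over (Spec (CommRingCat.of k))} [GrpObj G] [GrpObj A]

/-- An open connected subgroup is the connected component of the identity. -/
theorem connectedComponent_subset_range {N N₀ : Over (Spec (CommRingCat.of k))} [GrpObj N] [GrpObj N₀]
    (j : N₀ ⟶ N) [IsMonHom j] [IsOpenImmersion j.left] :
    connectedComponent (η[N].left (IsLocalRing.closedPoint k)) ⊆ Set.range j.left := by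
  have ho := j.left.isOpenEmbedding.isOpen_range
  exact IsClopen.connectedComponent_subset ⟨AbRigid.isClosed_range_of_isOpen j ho, ho⟩ (AbRigid.one_mem_range j)

/-- Every point lies in the translate of an open subgroup by a rational point. -/
theorem exists_mem_translate {N N₀ : Over (Spec (CommRingCat.of k))} [GrpObj N] [LocallyOfFiniteType N.hom]
    [GrpObj N₀] (j : N₀ ⟶ N) [IsMonHom j] [IsOpenImmersion j.left] (x : N.left) :
    ∃ t : 𝟙_ (Over (Spec (CommRingCat.of k))) ⟶ N,
      x ∈ Set.range (j ≫ OrbitTop19.tr (OrbitTop19.mulAction N) t).left := by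
  haveI : JacobsonSpace N.left := LocallyOfFiniteType.jacobsonSpace N.hom
  obtain ⟨q, hq, hqc⟩ := nonempty_inter_closedPoints (⟨x, mem_connectedComponent⟩ : (connectedComponent x).Nonempty)
    isClosed_connectedComponent.isLocallyClosed
  obtain ⟨t, ht⟩ := OrbitTop19.exists_point N q hqc
  refine ⟨t, ?_⟩
  set τ' := OrbitTop19.tr (OrbitTop19.mulAction N) t⁻¹
  have he : τ'.left q = η[N].left (IsLocalRing.closedPoint k) := by
    rw [← ht]
    refine OrbitTop19.apply_comp_left t τ' _ ?_ _
    rw [OrbitTop19.comp_tr, toUnit_unique (toUnit (𝟙_ (Over (Spec (CommRingCat.of k))))) (𝟙 _), Category.id_comp]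
    show lift t⁻¹ t ≫ μ[N] = _
    rw [← Hom.mul_def, inv_mul_cancel, MonObj.one_eq_one]
  have hsub : τ'.left '' connectedComponent x ⊆ connectedComponent (η[N].left (IsLocalRing.closedPoint k)) :=
    (isPreconnected_connectedComponent.image _ τ'.left.continuous.continuousOn).subset_connectedComponent
      ⟨q, hq, he⟩
  obtain ⟨u, hu⟩ := connectedComponent_subset_range j (hsub ⟨x, mem_connectedComponent, rfl⟩)
  refine ⟨u, ?_⟩
  rw [Over.comp_left, Scheme.Hom.comp_apply, hu,
    OrbitTop19.apply_comp_left τ' (OrbitTop19.tr (OrbitTop19.mulAction N) t) (𝟙 N) (OrbitTop19.inv_tr _ t) x]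
  rfl

set_option maxHeartbeats 1600000 in
/-- An abelian subvariety has a smooth connected quasi-complement. -/
theorem exists_quasiComplement [Smooth G.hom] [QuasiCompact G.hom] [ConnectedSpace G.left]
    [IsProper A.hom] [Smooth A.hom] [ConnectedSpace A.left] (i : A ⟶ G) [IsMonHom i] [IsClosedImmersion i.left] :
    ∃ (H : Over (Spec (CommRingCat.of k))) (_ : GrpObj H) (h : H ⟶ G), IsMonHom h ∧ IsClosedImmersion h.left ∧
      Smooth H.hom ∧ ConnectedSpace H.left ∧ AlgGrp.IsNormalHom h ∧ Surjective ((i ⊗ₘ h) ≫ μ[G]).left ∧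
      IsFinite (pullback.fst i.left h.left ≫ A.hom) := by
  obtain ⟨N, _, j, hjm, hjc, hjn, hcomm, -, hjs, hjf, hsm⟩ := exists_almostComplement i
  haveI := hjm; haveI := hjc; haveI := hjs
  haveI : Smooth N.hom := hsm inferInstance
  obtain ⟨H, _, j₀, hj₀m, hj₀o, hH⟩ := BorelFix21.exists_identity_component N
  haveI := hj₀m; haveI := hj₀o; haveI := hH
  haveI : IsClosedImmersion j₀.left :=
    IsClosedImmersion.of_isPreimmersion _ (AbRigid.isClosed_range_of_isOpen j₀ j₀.left.isOpenEmbedding.isOpen_range)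
  haveI : Smooth H.hom := by rw [← Over.w j₀]; infer_instance
  let h : H ⟶ G := j₀ ≫ j
  haveI : IsMonHom h := inferInstanceAs (IsMonHom (j₀ ≫ j))
  haveI : IsClosedImmersion h.left := inferInstanceAs (IsClosedImmersion (j₀.left ≫ j.left))
  haveI := AbRigid.geometricallyReduced_of_smooth A.hom
  haveI : GeometricallyIntegral A.hom := AbRigid.geometricallyIntegral_of_connected A
  haveI := AbRigid.geometricallyReduced_of_smooth G.hom
  haveI : GeometricallyIntegral G.hom := AbRigid.geometricallyIntegral_of_connected G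
  haveI : AlgebraicGeometry.IsIntegral G.left := GeometricallyIntegral.isIntegral_of_subsingleton G.hom
  haveI := AbRigid.geometricallyReduced_of_smooth H.hom
  haveI : GeometricallyIntegral H.hom := AbRigid.geometricallyIntegral_of_connected H
  -- normality
  have hnorm : AlgGrp.IsNormalHom h := fun T g m => by
    haveI : GeometricallyIntegral (G ⊗ H).hom := AbRigid.geometricallyIntegral_tensorObj G H
    haveI : AlgebraicGeometry.IsIntegral (G ⊗ H).left := GeometricallyIntegral.isIntegral_of_subsingleton (G ⊗ H).hom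
    obtain ⟨c, hc⟩ := hjn (G ⊗ H) (fst G H) (snd G H ≫ j₀)
    haveI : Mono j := Over.mono_of_mono_left j
    have h1 : lift η[G] η[H] ≫ c = η[N] := by
      rw [← cancel_mono j, Category.assoc, ← hc, MonObj.comp_mul, MonObj.comp_mul, GrpObj.comp_inv, lift_fst,
        Category.assoc, lift_snd_assoc, IsMonHom.one_hom j, IsMonHom.one_hom_assoc j₀, IsMonHom.one_hom j,
        MonObj.one_eq_one, _root_.one_mul, inv_one, _root_.mul_one]
    have hsub : Set.range c.left ⊆ Set.range j₀.left :=
      ((isPreconnected_range c.left.continuous).subset_connectedComponent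
        ⟨(lift η[G] η[H]).left (IsLocalRing.closedPoint k),
          OrbitTop19.apply_comp_left (lift η[G] η[H]) c _ h1 _⟩).trans
        (connectedComponent_subset_range j₀)
    refine ⟨lift g m ≫ Over.homMk (IsOpenImmersion.lift j₀.left c.left hsub)
      (by rw [← Over.w j₀, IsOpenImmersion.lift_fac_assoc, Over.w]), ?_⟩
    rw [Category.assoc]
    show g * (m ≫ j₀ ≫ j) * g⁻¹ = _
    have e : (Over.homMk (IsOpenImmersion.lift j₀.left c.left hsub)
        (by rw [← Over.w j₀, IsOpenImmersion.lift_fac_assoc, Over.w]) : G ⊗ H ⟶ H) ≫ h = c ≫ j := by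
      show _ ≫ j₀ ≫ j = _
      rw [← Category.assoc]
      congr 1
      exact Over.OverMorphism.ext (IsOpenImmersion.lift_fac _ _ _)
    rw [e, ← hc, MonObj.comp_mul, MonObj.comp_mul, GrpObj.comp_inv, lift_fst, Category.assoc, lift_snd_assoc]
  -- surjectivity
  haveI : IsMonHom ((i ⊗ₘ h) ≫ μ[G]) := by
    rw [tensorHom_mul_eq]
    refine isMonHom_mul_of_comm _ _ fun x y => ?_
    rw [← Category.assoc x]
    exact central_of_proper i _ _
  haveI : QuasiCompact H.hom := by rw [← Over.w h]; infer_instance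
  haveI : QuasiCompact (A ⊗ H).hom := inferInstanceAs (QuasiCompact (pullback.fst A.hom H.hom ≫ A.hom))
  haveI : IsSeparated G.hom := AbRigid.isSeparated_of_grpObj G
  haveI : QuasiCompact (((i ⊗ₘ h) ≫ μ[G]).left ≫ G.hom) := by rw [Over.w]; infer_instance
  haveI : QuasiCompact ((i ⊗ₘ h) ≫ μ[G]).left := QuasiCompact.of_comp _ G.hom
  have hsurj : Surjective ((i ⊗ₘ h) ≫ μ[G]).left := by
    obtain ⟨Z, _, z, f', -, -, hfz, hzc, -, -, hf's⟩ := GrpGen20.exists_image ((i ⊗ₘ h) ≫ μ[G])
    haveI := hzc; haveI := hf's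
    have hr : Set.range ((i ⊗ₘ h) ≫ μ[G]).left = Set.range z.left := by
      rw [← hfz, Over.comp_left, Scheme.Hom.comp_base, TopCat.coe_comp, Set.range_comp,
        Set.range_eq_univ.2 f'.left.surjective, Set.image_univ]
    have hcl : IsClosed (Set.range ((i ⊗ₘ h) ≫ μ[G]).left) := hr ▸ z.left.isClosedEmbedding.isClosed_range
    obtain ⟨ξ, hξ⟩ := ((i ⊗ₘ j) ≫ μ[G]).left.surjective (genericPoint G.left)
    obtain ⟨t, u, hu⟩ := exists_mem_translate j₀ ((snd A N).left ξ)
    set τ := OrbitTop19.tr (OrbitTop19.mulAction N) t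
    set σ := OrbitTop19.tr (OrbitTop19.mulAction G) (t ≫ j)
    haveI : IsIso σ.left :=
      ((Over.forget _).mapIso (OrbitTop19.trIso (OrbitTop19.mulAction G) (t ≫ j))).isIso_hom
    obtain ⟨w, -, hw⟩ := Scheme.exists_preimage_of_isPullback
      ((AbRigid.isPullback_whiskerLeft (j₀ ≫ τ) A).map (Over.forget _)) u ξ hu
    have e : (A ◁ (j₀ ≫ τ)) ≫ (i ⊗ₘ j) ≫ μ[G] = ((i ⊗ₘ h) ≫ μ[G]) ≫ σ := by
      rw [tensorHom_mul_eq, tensorHom_mul_eq, MonObj.comp_mul, whiskerLeft_fst_assoc, whiskerLeft_snd_assoc]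
      simp only [τ, σ, OrbitTop19.comp_tr]
      show fst A H ≫ i * snd A H ≫ (lift (toUnit H ≫ t) j₀ ≫ μ[N]) ≫ j =
        lift (toUnit (A ⊗ H) ≫ t ≫ j) (fst A H ≫ i * snd A H ≫ h) ≫ μ[G]
      rw [← Hom.mul_def, ← Hom.mul_def, MonObj.mul_comp, MonObj.comp_mul, Category.assoc,
        ← Category.assoc (snd A H) (toUnit H), comp_toUnit, ← _root_.mul_assoc, ← _root_.mul_assoc,
        central_of_proper i (fst A H) (toUnit (A ⊗ H) ≫ t ≫ j)]
    have hγ : genericPoint G.left ∈ σ.left '' Set.range ((i ⊗ₘ h) ≫ μ[G]).left := by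
      refine ⟨_, ⟨w, rfl⟩, ?_⟩
      rw [OrbitTop19.apply_comp_left _ σ _ e.symm, Over.comp_left, Scheme.Hom.comp_apply, ← hξ]
      exact congrArg _ hw
    have hcl' : IsClosed (σ.left '' Set.range ((i ⊗ₘ h) ≫ μ[G]).left) := σ.left.homeomorph.isClosedMap _ hcl
    have hu' : σ.left '' Set.range ((i ⊗ₘ h) ≫ μ[G]).left = Set.univ :=
      Set.univ_subset_iff.1 ((genericPoint_spec G.left).symm ▸ closure_minimal (Set.singleton_subset_iff.2 hγ) hcl')
    refine ⟨fun y => ?_⟩
    obtain ⟨y', ⟨a, rfl⟩, hy'⟩ := hu'.ge (Set.mem_univ (σ.left y))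
    exact ⟨a, σ.left.isOpenEmbedding.injective hy'⟩
  refine ⟨H, inferInstance, h, inferInstance, inferInstance, inferInstance, inferInstance, hnorm, hsurj, ?_⟩
  -- finiteness
  let l : pullback i.left h.left ⟶ pullback i.left j.left :=
    pullback.lift (pullback.fst _ _) (pullback.snd _ _ ≫ j₀.left) (by
      rw [Category.assoc, ← Over.comp_left]; exact pullback.condition)
  haveI : IsClosedImmersion (l ≫ pullback.fst i.left j.left) := by
    rw [pullback.lift_fst]; infer_instance
  haveI : IsClosedImmersion l := IsClosedImmersion.of_comp_isClosedImmersion l (pullback.fst i.left j.left)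
  haveI := hjf
  rw [← pullback.lift_fst (f := i.left) (g := j.left) (pullback.fst i.left h.left) (pullback.snd _ _ ≫ j₀.left)
    (by rw [Category.assoc, ← Over.comp_left]; exact pullback.condition), Category.assoc]
  exact inferInstanceAs (IsFinite (l ≫ pullback.fst i.left j.left ≫ A.hom))

end Groth.Agent.TorsorNorm25
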