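import Groth.Agent.Lib.TorsorNorm25.Galois
import Groth.Agent.Lib.GeomRed18.Smooth
import Groth.Agent.Lib.WeilExt.Apply
import Groth.Agent.Lib.AbRigid.Epi
import Groth.Agent.Lib.AbRigid.SmoothGI
import Groth.Prelude.Def_AlgGrp
import Mathlib.AlgebraicGeometry.SpreadingOut
import Mathlib.AlgebraicGeometry.FunctionField
import Mathlib.AlgebraicGeometry.Group.Abelian
import Mathlib.AlgebraicGeometry.Morphisms.LocalFlatDescent
import Mathlib.FieldTheory.IsSepClosed

/-!
# The norm of a torsor under an abelian variety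
-/

set_option autoImplicit false
set_option linter.style.haveILetI false
set_option backward.isDefEq.respectTransparency false
set_option synthInstance.maxHeartbeats 400000

universe u

open CategoryTheory CategoryTheory.Limits MonoidalCategory CartesianMonoidalCategory MonObj AlgebraicGeometry
open scoped GrpObj

noncomputable section

namespace Groth.Agent.TorsorNorm25

section Diff

variable {S : Scheme.{u}} {A X Y : Over S} [GrpObj A] (a : AlgGrp.Action A X) (f : X ⟶ Y)

/-- The element carrying the second point to the first. -/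
def diff (hsq : IsPullback a.act (snd A X) f f) {T : Over S} (x p : T ⟶ X) (h : x ≫ f = p ≫ f) : T ⟶ A :=
  hsq.lift x p h ≫ fst A X

variable {a f} (hsq : IsPullback a.act (snd A X) f f)

theorem diff_spec {T : Over S} (x p : T ⟶ X) (h : x ≫ f = p ≫ f) :
    lift (diff a f hsq x p h) p ≫ a.act = x := by
  have e : lift (diff a f hsq x p h) p = hsq.lift x p h := by
    ext1
    · rw [lift_fst]; rfl
    · rw [lift_snd, hsq.lift_snd]
  rw [e, hsq.lift_fst]

theorem diff_unique {T : Over S} (x p : T ⟶ X) (h : x ≫ f = p ≫ f) (d : T ⟶ A)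
    (hd : lift d p ≫ a.act = x) : diff a f hsq x p h = d := by
  have e : hsq.lift x p h = lift d p := hsq.hom_ext (by rw [hsq.lift_fst, hd]) (by rw [hsq.lift_snd, lift_snd])
  rw [diff, e, lift_fst]

theorem comp_diff {T T' : Over S} (t : T' ⟶ T) (x p : T ⟶ X) (h : x ≫ f = p ≫ f) :
    t ≫ diff a f hsq x p h =
      diff a f hsq (t ≫ x) (t ≫ p) (by rw [Category.assoc, h, Category.assoc]) :=
  (diff_unique hsq _ _ _ _ (by rw [← comp_lift, Category.assoc, diff_spec])).symm

theorem lift_mul_act {T : Over S} (b d : T ⟶ A) (p : T ⟶ X) :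
    lift (b * d) p ≫ a.act = lift b (lift d p ≫ a.act) ≫ a.act := by
  have e1 : lift (b * d) p = lift (lift b d) p ≫ (μ[A] ▷ X) := by
    ext1
    · rw [Category.assoc, whiskerRight_fst, lift_fst, lift_fst_assoc, Hom.mul_def]
    · rw [Category.assoc, whiskerRight_snd, lift_snd, lift_snd]
  have e2 : lift (lift b d) p ≫ (α_ A A X).hom = lift b (lift d p) := lift_lift_associator_hom b d p
  have e3 : lift b (lift d p) ≫ (A ◁ a.act) = lift b (lift d p ≫ a.act) := lift_whiskerLeft _ _ _
  rw [e1, Category.assoc, a.mul_act, reassoc_of% e2, reassoc_of% e3]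

theorem diff_act {T : Over S} (b : T ⟶ A) (x p : T ⟶ X) (h : x ≫ f = p ≫ f)
    (h' : (lift b x ≫ a.act) ≫ f = p ≫ f) :
    diff a f hsq (lift b x ≫ a.act) p h' = b * diff a f hsq x p h :=
  diff_unique hsq _ _ _ _ (by rw [lift_mul_act, diff_spec])

theorem diff_congr {T : Over S} {x p x' p' : T ⟶ X} (hx : x = x') (hp : p = p') (h : x ≫ f = p ≫ f)
    (h' : x' ≫ f = p' ≫ f) : diff a f hsq x p h = diff a f hsq x' p' h' := by
  subst hx; subst hp; rfl

end Diff

variable {k : Type u} [Field k]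

/-- A map of points over a fixed point of the base. -/
abbrev Pts {P₀ Y : Over (Spec (CommRingCat.of k))} (g : P₀ ⟶ Y) {T : Over (Spec (CommRingCat.of k))} (y : T ⟶ Y) :
    Type u :=
  {q : T ⟶ P₀ // q ≫ g = y}

section Norm

variable {A X Y : Over (Spec (CommRingCat.of k))} [GrpObj A] [IsCommMonObj A] {a : AlgGrp.Action A X} {f : X ⟶ Y}
  (hsq : IsPullback a.act (snd A X) f f) {P₀ : Over (Spec (CommRingCat.of k))} (P : P₀ ⟶ X)

/-- The product of the differences to the points over the image. -/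
def nrm {T : Over (Spec (CommRingCat.of k))} (x : T ⟶ X) : T ⟶ A :=
  ∏ᶠ q : Pts (P ≫ f) (x ≫ f), diff a f hsq x (q.1 ≫ P) (by rw [Category.assoc, q.2])

theorem comp_nrm {T T' : Over (Spec (CommRingCat.of k))} (t : T' ⟶ T) (x : T ⟶ X) (x' : T' ⟶ X) (hx : t ≫ x = x')
    [Finite (Pts (P ≫ f) (x ≫ f))] (e : Pts (P ≫ f) (x ≫ f) ≃ Pts (P ≫ f) (x' ≫ f))
    (he : ∀ q, (e q).1 = t ≫ q.1) : t ≫ nrm hsq P x = nrm hsq P x' := by
  let φ : (T ⟶ A) →* (T' ⟶ A) :=
    { toFun := fun u => t ≫ u, map_one' := MonObj.comp_one t, map_mul' := fun u v => MonObj.comp_mul t u v }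
  rw [nrm, nrm, show t ≫ (∏ᶠ q : Pts (P ≫ f) (x ≫ f), diff a f hsq x (q.1 ≫ P) _) = φ _ from rfl,
    φ.map_finprod (Set.toFinite _)]
  refine (finprod_eq_of_bijective e e.bijective fun q => ?_)
  show t ≫ diff a f hsq x (q.1 ≫ P) _ = _
  rw [comp_diff]
  exact diff_congr hsq hx (by rw [he, Category.assoc]) _ _

theorem nrm_act {T : Over (Spec (CommRingCat.of k))} (b : T ⟶ A) (x : T ⟶ X) [Finite (Pts (P ≫ f) (x ≫ f))]
    (x' : T ⟶ X) (hx' : lift b x ≫ a.act = x') (hf : x' ≫ f = x ≫ f) :
    nrm hsq P x' = nrm hsq P x * b ^ Nat.card (Pts (P ≫ f) (x ≫ f)) := by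
  subst hx'
  let e : Pts (P ≫ f) (x ≫ f) ≃ Pts (P ≫ f) ((lift b x ≫ a.act) ≫ f) :=
    Equiv.subtypeEquivRight fun q => by rw [hf]
  rw [nrm, ← finprod_comp_equiv e]
  letI := Fintype.ofFinite (Pts (P ≫ f) (x ≫ f))
  rw [finprod_eq_prod_of_fintype, nrm, finprod_eq_prod_of_fintype, Nat.card_eq_fintype_card, ← Finset.card_univ,
    ← Finset.prod_const, ← Finset.prod_mul_distrib]
  refine Finset.prod_congr rfl fun q _ => ?_
  rw [_root_.mul_comm]
  exact diff_act hsq b x (q.1 ≫ P) _ _

end Norm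

section Points

variable {Y : Over (Spec (CommRingCat.of k))} {gY : Y.left} {L : Type u} [Field L] [Algebra (Y.left.residueField gY) L]
  {P₀ : Over (Spec (CommRingCat.of k))} (eP : P₀.left = Spec (CommRingCat.of L)) (g : P₀ ⟶ Y)
  (hg : g.left = eqToHom eP ≫ Spec.map (CommRingCat.ofHom (algebraMap (Y.left.residueField gY) L)) ≫
    Y.left.fromSpecResidueField gY)

variable {Ω : Type u} [Field Ω] {T : Over (Spec (CommRingCat.of k))} (eT : T.left = Spec (CommRingCat.of Ω))
  (iΩ : Y.left.residueField gY →+* Ω) (y : T ⟶ Y)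
  (hy : y.left = eqToHom eT ≫ Spec.map (CommRingCat.ofHom iΩ) ≫ Y.left.fromSpecResidueField gY)

include hg hy

theorem exists_hom (q : Pts g y) : ∃ r : L →+* Ω, r.comp (algebraMap (Y.left.residueField gY) L) = iΩ ∧
    q.1.left = eqToHom eT ≫ Spec.map (CommRingCat.ofHom r) ≫ eqToHom eP.symm := by
  let r := Spec.preimage (eqToHom eT.symm ≫ q.1.left ≫ eqToHom eP)
  have hr : Spec.map r = eqToHom eT.symm ≫ q.1.left ≫ eqToHom eP := Spec.map_preimage _
  refine ⟨r.hom, ?_, by rw [CommRingCat.ofHom_hom, hr]; simp⟩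
  have h2 : q.1.left ≫ g.left = y.left := congrArg CommaMorphism.left q.2
  rw [hg, hy, ← cancel_epi (eqToHom eT.symm), eqToHom_trans_assoc, eqToHom_refl,
    Category.id_comp] at h2
  have h3 : Spec.map (CommRingCat.ofHom (algebraMap (Y.left.residueField gY) L) ≫ r) ≫ Y.left.fromSpecResidueField gY =
      Spec.map (CommRingCat.ofHom iΩ) ≫ Y.left.fromSpecResidueField gY := by
    rw [← h2, Spec.map_comp, hr]
    simp only [Category.assoc]
  exact congrArg CommRingCat.Hom.hom (Spec.map_injective ((cancel_mono _).1 h3))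

/-- The point attached to an embedding. -/
theorem exists_pt (r : L →+* Ω) (hr : r.comp (algebraMap (Y.left.residueField gY) L) = iΩ) :
    ∃ q : Pts g y, q.1.left = eqToHom eT ≫ Spec.map (CommRingCat.ofHom r) ≫ eqToHom eP.symm := by
  have h : (eqToHom eT ≫ Spec.map (CommRingCat.ofHom r) ≫ eqToHom eP.symm) ≫ g.left = y.left := by
    rw [hg, hy]
    simp only [Category.assoc, eqToHom_trans_assoc, eqToHom_refl, Category.id_comp]
    rw [← Spec.map_comp_assoc, ← hr]
    rfl
  exact ⟨⟨Over.homMk _ (by rw [← Over.w g, ← Over.w y, ← Category.assoc, h]), Over.OverMorphism.ext h⟩, rfl⟩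

theorem finite_pts [FiniteDimensional (Y.left.residueField gY) L] : Finite (Pts g y) := by
  letI : Algebra (Y.left.residueField gY) Ω := iΩ.toAlgebra
  choose r hr hq using exists_hom eP g hg eT iΩ y hy
  refine Finite.of_injective (fun q => ({ r q with commutes' := fun c => RingHom.congr_fun (hr q) c } :
    L →ₐ[Y.left.residueField gY] Ω)) fun p q hpq => ?_
  refine Subtype.ext (Over.OverMorphism.ext ?_)
  have hrr : r p = r q := congrArg AlgHom.toRingHom hpq
  rw [hq p, hq q, hrr]

theorem nonempty_pts [IsSepClosed Ω] [Algebra.IsSeparable (Y.left.residueField gY) L] : Nonempty (Pts g y) := by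
  letI : Algebra (Y.left.residueField gY) Ω := iΩ.toAlgebra
  let r : L →ₐ[Y.left.residueField gY] Ω := IsSepClosed.lift
  obtain ⟨q, -⟩ := exists_pt eP g hg eT iΩ y hy r.toRingHom (RingHom.ext r.commutes)
  exact ⟨q⟩

/-- Restriction along an embedding of a separably closed field is bijective on these points. -/
theorem exists_equiv [IsSepClosed Ω] [Algebra.IsSeparable (Y.left.residueField gY) L] {Ω' : Type u} [Field Ω']
    {T' : Over (Spec (CommRingCat.of k))} (eT' : T'.left = Spec (CommRingCat.of Ω')) (ω : Ω →+* Ω')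
    (t : T' ⟶ T) (ht : t.left = eqToHom eT' ≫ Spec.map (CommRingCat.ofHom ω) ≫ eqToHom eT.symm)
    (y' : T' ⟶ Y) (hy' : t ≫ y = y') : ∃ e : Pts g y ≃ Pts g y', ∀ q, (e q).1 = t ≫ q.1 := by
  subst hy'
  let F : Pts g y → Pts g (t ≫ y) := fun q => ⟨t ≫ q.1, by rw [Category.assoc, q.2]⟩
  have hy2 : (t ≫ y).left = eqToHom eT' ≫ Spec.map (CommRingCat.ofHom (ω.comp iΩ)) ≫
      Y.left.fromSpecResidueField gY := by
    rw [Over.comp_left, ht, hy, CommRingCat.ofHom_comp, Spec.map_comp]
    simp only [Category.assoc, eqToHom_trans_assoc, eqToHom_refl, Category.id_comp]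
  refine ⟨Equiv.ofBijective F ⟨fun p q hpq => ?_, fun q' => ?_⟩, fun q => rfl⟩
  · obtain ⟨r, -, hp⟩ := exists_hom eP g hg eT iΩ y hy p
    obtain ⟨r', -, hq⟩ := exists_hom eP g hg eT iΩ y hy q
    have h := congrArg (fun z : Pts g (t ≫ y) => z.1.left) hpq
    simp only [F, Over.comp_left, ht, hp, hq, Category.assoc, eqToHom_trans_assoc, eqToHom_refl,
      Category.id_comp, cancel_epi, ← Category.assoc, cancel_mono] at h
    exact Subtype.ext (Over.OverMorphism.ext (by rw [hp, hq, h]))
  · obtain ⟨r', hr', hq'⟩ := exists_hom eP g hg eT' (ω.comp iΩ) (t ≫ y) hy2 q'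
    obtain ⟨r, hr, hωr⟩ := exists_comp_eq iΩ ω r' hr'
    obtain ⟨q, hq⟩ := exists_pt eP g hg eT iΩ y hy r hr
    refine ⟨q, Subtype.ext (Over.OverMorphism.ext ?_)⟩
    show t.left ≫ q.1.left = q'.1.left
    rw [ht, hq, hq', ← hωr, CommRingCat.ofHom_comp, Spec.map_comp]
    simp only [Category.assoc, eqToHom_trans_assoc, eqToHom_refl, Category.id_comp]

end Points

theorem exists_field_point {Z : Scheme.{u}} {M : Type u} [Field M] (g : Spec (CommRingCat.of M) ⟶ Z) {z : Z}
    (h : g (IsLocalRing.closedPoint M) = z) :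
    ∃ φ : Z.residueField z →+* M, g = Spec.map (CommRingCat.ofHom φ) ≫ Z.fromSpecResidueField z := by
  subst h
  exact ⟨_, (Scheme.descResidueField_stalkClosedPointTo_fromSpecResidueField M Z g).symm⟩

theorem exists_generic_point_map {Z : Scheme.{u}} {M : Type u} [Field M] [AlgebraicGeometry.IsIntegral Z]
    (g : Spec (CommRingCat.of M) ⟶ Z) (h : g (IsLocalRing.closedPoint M) = genericPoint Z) :
    ∃ φ : Z.functionField →+* M, g = Spec.map (CommRingCat.ofHom φ) ≫ Z.fromSpecStalk (genericPoint Z) := by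
  obtain ⟨φ, hφ⟩ := exists_field_point g h
  refine ⟨φ.comp (Z.residue (genericPoint Z)).hom, ?_⟩
  rw [hφ, CommRingCat.ofHom_comp, Spec.map_comp, Category.assoc]
  rfl

theorem map_genericPoint_of_surjective {Z W : Scheme.{u}} [IrreducibleSpace Z] [IrreducibleSpace W] (g : Z ⟶ W)
    [Surjective g] : g (genericPoint Z) = genericPoint W := by
  have h := (genericPoint_spec Z).image g.continuous
  rw [Set.image_univ, g.surjective.range_eq, closure_univ] at h
  exact h.eq (genericPoint_spec W)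

variable {A X Y : Over (Spec (CommRingCat.of k))} [GrpObj A]

/-- A torsor over an integral base has smooth structure map. -/
theorem smooth_of_torsor [Smooth A.hom] {a : AlgGrp.Action A X} {f : X ⟶ Y} [Flat f.left] [Surjective f.left]
    [QuasiCompact f.left] (hsq : IsPullback a.act (snd A X) f f) : Smooth f.left := by
  have h := hsq.map (Over.forget _)
  haveI : Smooth (snd A X).left := inferInstanceAs (Smooth (pullback.snd A.hom X.hom))
  exact MorphismProperty.of_isPullback_of_descendsAlong (P := @Smooth) (Q := @Surjective ⊓ @Flat ⊓ @QuasiCompact)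
    h.flip ⟨⟨‹Surjective f.left›, ‹Flat f.left›⟩, ‹QuasiCompact f.left›⟩ ‹Smooth (snd A X).left›

/-- A separable point in the generic fibre. -/
theorem exists_separable_point [AlgebraicGeometry.IsIntegral Y.left] (f : X ⟶ Y) [Smooth f.left]
    [Surjective f.left] :
    ∃ (L : Type u) (_ : Field L) (_ : Algebra (Y.left.residueField (genericPoint Y.left)) L)
      (P₀ : Over (Spec (CommRingCat.of k))) (eP : P₀.left = Spec (CommRingCat.of L)) (P : P₀ ⟶ X),
      FiniteDimensional (Y.left.residueField (genericPoint Y.left)) L ∧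
      Algebra.IsSeparable (Y.left.residueField (genericPoint Y.left)) L ∧
      (P ≫ f).left = eqToHom eP ≫
        Spec.map (CommRingCat.ofHom (algebraMap (Y.left.residueField (genericPoint Y.left)) L)) ≫
        Y.left.fromSpecResidueField (genericPoint Y.left) := by
  let gY := genericPoint Y.left
  let F := Y.left.residueField gY
  let jY := Y.left.fromSpecResidueField gY
  let XF := pullback f.left jY
  letI : XF.Over (Spec (CommRingCat.of F)) := ⟨pullback.snd f.left jY⟩
  have hs : Smooth (pullback.snd f.left jY) := MorphismProperty.pullback_snd _ _ ‹Smooth f.left›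
  haveI : LocallyOfFiniteType (XF ↘ Spec (CommRingCat.of F)) := inferInstanceAs (LocallyOfFiniteType (pullback.snd f.left jY))
  haveI : Smooth ((⊤ : XF.Opens).ι ≫ (XF ↘ Spec (CommRingCat.of F))) := by
    haveI := hs
    exact inferInstanceAs (Smooth ((⊤ : XF.Opens).ι ≫ pullback.snd f.left jY))
  haveI : Surjective (pullback.snd f.left jY) := MorphismProperty.pullback_snd _ _ ‹Surjective f.left›
  obtain ⟨x, -⟩ := (pullback.snd f.left jY).surjective (IsLocalRing.closedPoint F)
  letI : ∀ y, Algebra F (XF.residueField y) := fun y => Curv2.resAlgebra F XF y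
  obtain ⟨p, -, -, hfin, hsep⟩ := GeomRed.exists_separable_point (k := F) (⊤ : XF.Opens) (x := x) trivial
  let ρ := XF.fromSpecResidueField p
  let P₀ : Over (Spec (CommRingCat.of k)) := Over.mk (ρ ≫ pullback.fst f.left jY ≫ X.hom)
  let P : P₀ ⟶ X := Over.homMk (ρ ≫ pullback.fst f.left jY) (Category.assoc _ _ _)
  refine ⟨XF.residueField p, inferInstance, inferInstance, P₀, rfl, P, hfin, hsep, ?_⟩
  rw [eqToHom_refl, Category.id_comp]
  show (ρ ≫ pullback.fst f.left jY) ≫ f.left = _
  rw [Category.assoc, pullback.condition, ← Category.assoc]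
  congr 1
  exact (GeomIrr.spec_resMap F XF p).symm

set_option maxHeartbeats 1600000 in
/-- A morphism to an abelian variety on which a torsor structure is multiplication. -/
theorem exists_norm [IsProper A.hom] [Smooth A.hom] [GeometricallyIntegral A.hom]
    [Smooth X.hom] [GeometricallyIntegral X.hom]
    [AlgebraicGeometry.IsIntegral Y.left] (a : AlgGrp.Action A X) (f : X ⟶ Y) [Flat f.left] [Surjective f.left]
    [QuasiCompact f.left] (hsq : IsPullback a.act (snd A X) f f) :
    ∃ (φ : X ⟶ A) (n : ℕ), 0 < n ∧ a.act ≫ φ = (snd A X ≫ φ) * fst A X ^ n := by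
  haveI := isCommMonObj_of_isProper_of_geometricallyIntegral A
  haveI : AlgebraicGeometry.IsIntegral X.left := GeometricallyIntegral.isIntegral_of_subsingleton X.hom
  haveI : GeometricallyIntegral (A ⊗ X).hom := AbRigid.geometricallyIntegral_tensorObj A X
  haveI : LocallyOfFiniteType (A ⊗ X).hom := inferInstanceAs (LocallyOfFiniteType (pullback.fst A.hom X.hom ≫ A.hom))
  haveI : AlgebraicGeometry.IsIntegral (A ⊗ X).left := GeometricallyIntegral.isIntegral_of_subsingleton (A ⊗ X).hom
  haveI := smooth_of_torsor hsq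
  obtain ⟨L, _, _, P₀, eP, P, hfin, hsep, hP⟩ := exists_separable_point (k := k) f
  let ξ := genericPoint X.left
  let gY := genericPoint Y.left
  have hξη : f.left ξ = gY := map_genericPoint_of_surjective f.left
  -- the generic point over a separable closure
  let E := X.left.functionField
  let xE : Spec (CommRingCat.of E) ⟶ X.left := X.left.fromSpecStalk ξ
  have hxE : ∀ z, xE z = ξ := fun z => by
    rw [Subsingleton.elim (α := PrimeSpectrum E) z (IsLocalRing.closedPoint E)]
    exact Scheme.fromSpecStalk_closedPoint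
  let Ω := SeparableClosure E
  let j : Spec (CommRingCat.of Ω) ⟶ Spec (CommRingCat.of E) := Spec.map (CommRingCat.ofHom (algebraMap E Ω))
  let T : Over (Spec (CommRingCat.of k)) := Over.mk (j ≫ xE ≫ X.hom)
  let x : T ⟶ X := Over.homMk (j ≫ xE) (Category.assoc _ _ _)
  have hxpt : ∀ z, x.left z = ξ := fun z => hxE (j z)
  obtain ⟨iΩ, hiΩ⟩ := exists_field_point (Z := Y.left) (z := gY) (show Spec (CommRingCat.of Ω) ⟶ Y.left from (x ≫ f).left)
    ((congrArg f.left (hxpt _)).trans hξη)
  have hy : (x ≫ f).left = eqToHom (rfl : T.left = T.left) ≫ Spec.map (CommRingCat.ofHom iΩ) ≫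
      Y.left.fromSpecResidueField gY := hiΩ.trans (Category.id_comp _).symm
  haveI : Finite (Pts (P ≫ f) (x ≫ f)) := finite_pts eP (P ≫ f) hP rfl iΩ (x ≫ f) hy
  haveI : Nonempty (Pts (P ≫ f) (x ≫ f)) := nonempty_pts eP (P ≫ f) hP rfl iΩ (x ≫ f) hy
  let n := Nat.card (Pts (P ≫ f) (x ≫ f))
  let N : T ⟶ A := nrm hsq P x
  -- Galois invariance
  have hinv : ∀ σ : Gal(Ω/E), Spec.map (CommRingCat.ofHom (σ : Ω →+* Ω)) ≫ N.left = N.left := by
    intro σ
    have hσ : Spec.map (CommRingCat.ofHom (σ : Ω →+* Ω)) ≫ j = j := by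
      rw [← Spec.map_comp]
      congr 1
      exact CommRingCat.hom_ext (RingHom.ext fun c => σ.commutes c)
    let t : T ⟶ T := Over.homMk (Spec.map (CommRingCat.ofHom (σ : Ω →+* Ω))) (by
      show _ ≫ j ≫ xE ≫ X.hom = j ≫ xE ≫ X.hom
      rw [reassoc_of% hσ])
    have htx : t ≫ x = x := by
      ext1
      show Spec.map (CommRingCat.ofHom (σ : Ω →+* Ω)) ≫ j ≫ xE = j ≫ xE
      rw [reassoc_of% hσ]
    obtain ⟨e, he⟩ := exists_equiv eP (P ≫ f) hP (rfl : T.left = _) iΩ (x ≫ f) hy (rfl : T.left = _)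
      (σ : Ω →+* Ω) t (by simp [t]) (x ≫ f) (by rw [← Category.assoc, htx])
    exact congrArg CommaMorphism.left (comp_nrm hsq P t x x htx e he)
  obtain ⟨φE, hφE⟩ := exists_descend_point (show Spec (CommRingCat.of Ω) ⟶ A.left from N.left) hinv
  have hφEk : φE ≫ A.hom = xE ≫ X.hom := by
    haveI : Surjective j := ⟨fun z => ⟨IsLocalRing.closedPoint Ω, Subsingleton.elim (α := PrimeSpectrum E) _ _⟩⟩
    haveI : Epi j := inferInstance
    rw [← cancel_epi j, reassoc_of% hφE]
    exact Over.w N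
  -- spreading out and extension
  haveI : LocallyOfFiniteType A.hom := inferInstance
  obtain ⟨U, hξU, g, hg, hgk⟩ := spread_out_of_isGermInjective' X.hom A.hom (x := ξ) φE hφEk
  obtain ⟨φ', ⟨hφ'k, hφ'U⟩, -⟩ := WeilExt.exists_extension_of_isProper X A U
    (U.2.dense ⟨ξ, hξU⟩) g hgk
  let φ : X ⟶ A := Over.homMk φ' hφ'k
  have hxφ : x ≫ φ = N := by
    ext1
    show (j ≫ xE) ≫ φ' = N.left
    rw [show N.left = j ≫ φE from hφE.symm, hg, ← hφ'U, Category.assoc, ← Scheme.Opens.fromSpecStalkOfMem_ι_assoc]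
  refine ⟨φ, n, Nat.card_pos, ?_⟩
  -- the generic point of the product
  let W := A ⊗ X
  let ζ := genericPoint W.left
  let E' := W.left.functionField
  let M := AlgebraicClosure E'
  let w₀ : Spec (CommRingCat.of M) ⟶ W.left :=
    Spec.map (CommRingCat.ofHom (algebraMap E' M)) ≫ W.left.fromSpecStalk ζ
  let T' : Over (Spec (CommRingCat.of k)) := Over.mk (w₀ ≫ W.hom)
  let w : T' ⟶ W := Over.homMk w₀ rfl
  have hwpt : ∀ z, w.left z = ζ := fun z => by
    show (W.left.fromSpecStalk ζ) ((Spec.map (CommRingCat.ofHom (algebraMap E' M))) z) = ζ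
    exact (congrArg (W.left.fromSpecStalk ζ) (Subsingleton.elim (α := PrimeSpectrum E') _ _)).trans
      Scheme.fromSpecStalk_closedPoint
  have key : ∀ (u : W ⟶ X), Surjective u.left →
      ∃ (t : T' ⟶ T) (e : Pts (P ≫ f) (x ≫ f) ≃ Pts (P ≫ f) ((w ≫ u) ≫ f)),
        t ≫ x = w ≫ u ∧ ∀ q, (e q).1 = t ≫ q.1 := by
    intro u hu
    obtain ⟨eu, heu⟩ := exists_generic_point_map (Z := X.left) (show Spec (CommRingCat.of M) ⟶ X.left from (w ≫ u).left)
      ((congrArg u.left (hwpt _)).trans (map_genericPoint_of_surjective u.left))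
    letI : Algebra E M := eu.toAlgebra
    let ω : Ω →ₐ[E] M := IsSepClosed.lift
    have hω : Spec.map (CommRingCat.ofHom (ω : Ω →+* M)) ≫ j = Spec.map (CommRingCat.ofHom eu) := by
      rw [← Spec.map_comp]
      congr 1
      ext c
      exact ω.commutes c
    let t : T' ⟶ T := Over.homMk (Spec.map (CommRingCat.ofHom (ω : Ω →+* M))) (by
      show _ ≫ j ≫ xE ≫ X.hom = w₀ ≫ W.hom
      rw [reassoc_of% hω, ← Category.assoc, ← heu]
      exact Over.w (w ≫ u))
    have htx : t ≫ x = w ≫ u := by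
      ext1
      show Spec.map (CommRingCat.ofHom (ω : Ω →+* M)) ≫ j ≫ xE = _
      rw [reassoc_of% hω]
      exact heu.symm
    obtain ⟨e, he⟩ := exists_equiv eP (P ≫ f) hP (rfl : T.left = _) iΩ (x ≫ f) hy (rfl : T'.left = _)
      (ω : Ω →+* M) t (by simp [t]) ((w ≫ u) ≫ f) (by rw [← Category.assoc, htx])
    exact ⟨t, e, htx, he⟩
  have hsnd : Surjective (snd A X).left := by
    haveI : Surjective A.hom := inferInstance
    exact MorphismProperty.pullback_snd _ _ ‹Surjective A.hom›
  have hact : Surjective a.act.left := by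
    haveI : Surjective ((lift (toUnit X ≫ η[A]) (𝟙 X)).left ≫ a.act.left) := by
      have e : lift (toUnit X ≫ η[A]) (𝟙 X) ≫ a.act = 𝟙 X := by
        have e1 : lift (toUnit X ≫ η[A]) (𝟙 X) = lift (toUnit X) (𝟙 X) ≫ (η[A] ▷ X) := by
          ext1
          · rw [lift_fst, Category.assoc, whiskerRight_fst, lift_fst_assoc]
          · rw [lift_snd, Category.assoc, whiskerRight_snd, lift_snd]
        rw [e1, Category.assoc, a.one_act, leftUnitor_hom, lift_snd]
      rw [← Over.comp_left, e]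
      exact inferInstanceAs (Surjective (𝟙 X.left))
    exact Surjective.of_comp (lift (toUnit X ≫ η[A]) (𝟙 X)).left a.act.left
  obtain ⟨t₁, e₁, ht₁, he₁⟩ := key a.act hact
  obtain ⟨t₂, e₂, ht₂, he₂⟩ := key (snd A X) hsnd
  haveI : Finite (Pts (P ≫ f) ((w ≫ snd A X) ≫ f)) := Finite.of_equiv _ e₂
  have hcard : Nat.card (Pts (P ≫ f) ((w ≫ snd A X) ≫ f)) = n := (Nat.card_congr e₂).symm
  have hwact : lift (w ≫ fst A X) (w ≫ snd A X) ≫ a.act = w ≫ a.act := by
    rw [← comp_lift, lift_fst_snd, Category.comp_id]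
  have hgen : w ≫ a.act ≫ φ = w ≫ ((snd A X ≫ φ) * fst A X ^ n) := by
    rw [MonObj.comp_mul, MonObj.comp_pow, ← Category.assoc, ← ht₁, Category.assoc, hxφ,
      comp_nrm hsq P t₁ x (w ≫ a.act) ht₁ e₁ he₁, ← Category.assoc, ← ht₂, Category.assoc, hxφ,
      comp_nrm hsq P t₂ x (w ≫ snd A X) ht₂ e₂ he₂,
      nrm_act hsq P (w ≫ fst A X) (w ≫ snd A X) (w ≫ a.act) hwact (by rw [Category.assoc, hsq.w, Category.assoc]),
      hcard]
  ext1
  haveI : IsDominant w.left := ⟨dense_iff_closure_eq.2 (Set.eq_univ_of_univ_subset (by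
    rw [← (genericPoint_spec W.left).def]
    exact closure_mono (Set.singleton_subset_iff.2 ⟨IsLocalRing.closedPoint M, hwpt _⟩)))⟩
  exact ext_of_isDominant_of_isSeparated A.hom (by rw [Over.w, Over.w]) w.left (congrArg CommaMorphism.left hgen)

end Groth.Agent.TorsorNorm25
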