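import Groth.Agent.Lib.BorelFix21.Stabilizer
import Groth.Agent.Lib.OrbitTop19.Closed
import Groth.Agent.S11410
import Mathlib.AlgebraicGeometry.ZariskisMainTheorem
import Mathlib.AlgebraicGeometry.AlgClosed.Basic
import Mathlib.AlgebraicGeometry.Morphisms.Proper

/-!
# A faithful action of an abelian variety has finite stabilisers
-/

set_option autoImplicit false
set_option linter.style.haveILetI false
set_option backward.isDefEq.respectTransparency false
set_option synthInstance.maxHeartbeats 400000

universe u

open CategoryTheory CategoryTheory.Limits MonoidalCategory CartesianMonoidalCategory MonObj AlgebraicGeometry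
open scoped GrpObj

noncomputable section

namespace Groth.Agent.TorsorNorm25

variable {k : Type u} [Field k] [IsAlgClosed k] {A X : Over (Spec (CommRingCat.of k))} [GrpObj A]

/-- Rational points are determined by their image. -/
theorem rpt_ext {Z : Over (Spec (CommRingCat.of k))} [LocallyOfFiniteType Z.hom]
    {p q : 𝟙_ (Over (Spec (CommRingCat.of k))) ⟶ Z}
    (h : p.left (IsLocalRing.closedPoint k) = q.left (IsLocalRing.closedPoint k)) : p = q :=
  Over.OverMorphism.ext (ext_of_apply_closedPoint_eq Z.hom (Over.w p) (Over.w q) h)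

variable [IsProper A.hom] [Smooth A.hom] [LocallyOfFiniteType X.hom] [QuasiCompact X.hom] [IsSeparated X.hom]
  [AlgebraicGeometry.IsIntegral X.left] (a : AlgGrp.Action A X)
  (hfaith : ∀ g : 𝟙_ (Over (Spec (CommRingCat.of k))) ⟶ A, lift (toUnit X ≫ g) (𝟙 X) ≫ a.act = 𝟙 X → g = η[A])

include hfaith

/-- Only finitely many rational points fix a rational point. -/
theorem finite_fixing (x : 𝟙_ (Over (Spec (CommRingCat.of k))) ⟶ X) :
    {g : 𝟙_ (Over (Spec (CommRingCat.of k))) ⟶ A | lift g x ≫ a.act = x}.Finite := by
  obtain ⟨St, _, s, hsm, hsc, hsq⟩ := BorelFix21.exists_stabilizer a x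
  haveI := hsm; haveI := hsc
  have hs : ∀ (T : Over (Spec (CommRingCat.of k))) (g : T ⟶ A),
      (∃ t : T ⟶ St, t ≫ s = g) ↔ lift g (toUnit T ≫ x) ≫ a.act = toUnit T ≫ x := by
    intro T g
    rw [← AlgGrp.Action.comp_orbitMap a g x]
    refine ⟨?_, fun h => ⟨hsq.lift g (toUnit T) h, hsq.lift_fst _ _ _⟩⟩
    rintro ⟨t, rfl⟩
    rw [Category.assoc, hsq.w, ← Category.assoc, comp_toUnit]
  haveI : IsAffine St.left := S11410.result k A X a hfaith x St s hs
  haveI : IsProper (s.left ≫ A.hom) := inferInstance
  haveI : IsProper St.hom := by rw [← Over.w s]; infer_instance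
  haveI : IsAffineHom St.hom := inferInstance
  haveI : IsFinite St.hom := (IsFinite.iff_isProper_and_isAffineHom).2 ⟨inferInstance, inferInstance⟩
  haveI : Finite St.left := by
    haveI : LocallyQuasiFinite St.hom := inferInstance
    refine Set.finite_univ_iff.1 ((St.hom.finite_preimage_singleton (IsLocalRing.closedPoint k)).subset fun z _ => ?_)
    exact Subsingleton.elim (α := PrimeSpectrum k) _ _
  haveI : Finite (𝟙_ (Over (Spec (CommRingCat.of k))) ⟶ St) :=
    Finite.of_injective (fun p => p.left (IsLocalRing.closedPoint k)) fun p q h => rpt_ext h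
  refine (Set.finite_range fun t : 𝟙_ (Over (Spec (CommRingCat.of k))) ⟶ St => t ≫ s).subset fun g hg => ?_
  refine (hs _ g).2 ?_
  rw [toUnit_unique (toUnit (𝟙_ (Over (Spec (CommRingCat.of k))))) (𝟙 _), Category.id_comp]
  exact hg

/-- The map `(g, x) ↦ (gx, x)` is finite. -/
theorem isFinite_actSnd : IsFinite (lift a.act (snd A X)).left := by
  let W := A ⊗ X
  let P := lift a.act (snd A X)
  haveI : LocallyOfFiniteType W.hom := inferInstanceAs (LocallyOfFiniteType (pullback.fst A.hom X.hom ≫ A.hom))
  haveI : LocallyOfFiniteType (X ⊗ X).hom :=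
    inferInstanceAs (LocallyOfFiniteType (pullback.fst X.hom X.hom ≫ X.hom))
  haveI : IsSeparated (X ⊗ X).hom := inferInstanceAs (IsSeparated (pullback.fst X.hom X.hom ≫ X.hom))
  haveI hpr : IsProper P.left := by
    haveI : IsProper (snd A X).left := inferInstanceAs (IsProper (pullback.snd A.hom X.hom))
    haveI : IsSeparated (snd X X).left := inferInstanceAs (IsSeparated (pullback.snd X.hom X.hom))
    haveI : IsProper (P.left ≫ (snd X X).left) := by
      rw [← Over.comp_left, lift_snd]; infer_instance
    exact IsProper.of_comp P.left (snd X X).left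
  haveI : JacobsonSpace W.left := LocallyOfFiniteType.jacobsonSpace W.hom
  have hclosed : ∀ q : W.left, IsClosed ({q} : Set W.left) → P.left.QuasiFiniteAt q := by
    intro q hq
    obtain ⟨q', rfl⟩ := OrbitTop19.exists_point W q hq
    set pt : Spec (CommRingCat.of k) := IsLocalRing.closedPoint k
    let F : Set W.left := P.left ⁻¹' {P.left (q'.left pt)}
    have hFc : IsClosed F := by
      refine IsClosed.preimage P.left.continuous ?_
      have := P.left.isClosedMap _ hq
      rwa [Set.image_singleton] at this
    have hfin : (F ∩ closedPoints W.left).Finite := by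
      have hS := ((finite_fixing a hfaith (q' ≫ snd A X)).image fun g =>
        (lift ((q' ≫ fst A X) * g) (q' ≫ snd A X)).left pt)
      refine hS.subset ?_
      rintro p ⟨hpF, hpc⟩
      obtain ⟨p', rfl⟩ := OrbitTop19.exists_point W p hpc
      have he : p' ≫ P = q' ≫ P := rpt_ext (by
        rw [Over.comp_left, Over.comp_left, Scheme.Hom.comp_apply, Scheme.Hom.comp_apply]; exact hpF)
      have h2 : p' ≫ snd A X = q' ≫ snd A X := by
        simpa [P] using congrArg (· ≫ snd X X) he
      have h1 : p' ≫ a.act = q' ≫ a.act := by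
        simpa [P] using congrArg (· ≫ fst X X) he
      refine ⟨(q' ≫ fst A X)⁻¹ * (p' ≫ fst A X), ?_, ?_⟩
      · show lift _ _ ≫ a.act = _
        have hp : lift (p' ≫ fst A X) (q' ≫ snd A X) = p' := by
          rw [← h2, ← comp_lift, lift_fst_snd, Category.comp_id]
        have hq2 : lift (q' ≫ fst A X) (q' ≫ snd A X) = q' := by
          rw [← comp_lift, lift_fst_snd, Category.comp_id]
        rw [AlgGrpBasic19.act_mul, hp, h1]
        have e : q' ≫ a.act = lift (q' ≫ fst A X) (q' ≫ snd A X) ≫ a.act := by rw [hq2]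
        rw [e]
        rw [← AlgGrpBasic19.act_mul, inv_mul_cancel, AlgGrpBasic19.act_one]
      · show (lift ((q' ≫ fst A X) * ((q' ≫ fst A X)⁻¹ * (p' ≫ fst A X))) (q' ≫ snd A X)).left pt = _
        rw [mul_inv_cancel_left, ← h2, ← comp_lift, lift_fst_snd, Category.comp_id]
    have hcC : IsClosed (F ∩ closedPoints W.left) := by
      rw [← Set.biUnion_of_singleton (F ∩ closedPoints W.left)]
      exact hfin.isClosed_biUnion fun z hz => hz.2
    have hFeq : F = F ∩ closedPoints W.left := by
      refine Set.Subset.antisymm ?_ Set.inter_subset_left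
      exact ((JacobsonSpace.closure_inter_closedPoints hFc).symm.trans hcC.closure_eq).le
    rw [Scheme.Hom.quasiFiniteAt_iff_isOpen_singleton_asFiber]
    haveI : Finite F := (hFeq ▸ hfin : F.Finite).to_subtype
    haveI : T1Space F := ⟨fun z => by
      refine isClosed_induced_iff.2 ⟨{z.1}, (hFeq.le z.2).2, ?_⟩
      ext w
      exact ⟨fun h => Subtype.ext h, fun h => congrArg Subtype.val h⟩⟩
    haveI : DiscreteTopology F := inferInstance
    haveI := (P.left.fiberHomeo (P.left (q'.left pt))).symm.discreteTopology
    exact isOpen_discrete _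
  haveI : LocallyQuasiFinite P.left := by
    rw [← Scheme.Hom.quasiFiniteLocus_eq_top_iff]
    ext z
    refine ⟨fun _ => trivial, fun _ => ?_⟩
    by_contra hz
    obtain ⟨q, hq, hqc⟩ := nonempty_inter_closedPoints (⟨z, hz⟩ : (P.left.quasiFiniteLocus : Set W.left)ᶜ.Nonempty)
      P.left.quasiFiniteLocus.isOpen.isClosed_compl.isLocallyClosed
    exact hq (hclosed q hqc)
  exact IsFinite.of_isProper_of_locallyQuasiFinite P.left

end Groth.Agent.TorsorNorm25
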