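import Groth.Agent.Lib.FlatH4.GenFreeRed
import Mathlib.RingTheory.Algebraic.Integral
import Mathlib.RingTheory.Flat.FaithfullyFlat.Algebra
import Mathlib.RingTheory.Localization.FractionRing
import Mathlib.RingTheory.Spectrum.Prime.Noetherian
import Mathlib.FieldTheory.IsAlgClosed.Basic

/-!
# Primes meeting a family of orbits in finitely many points
-/

set_option autoImplicit false
set_option linter.style.haveILetI false

universe u

open Polynomial
open scoped TensorProduct

namespace Groth.Agent.TorsorNorm25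

/-- A transcendental element takes some constant value at a prime over the generic point. -/
theorem exists_prime_sub_const {k R D : Type u} [Field k] [Infinite k] [CommRing R] [IsDomain R] [CommRing D]
    [IsDomain D] [Algebra k R] [Algebra R D] [Algebra.FiniteType R D] (t : D)
    (ht : Transcendental R t) :
    ∃ (c : k) (P : Ideal D), P.IsPrime ∧ P.comap (algebraMap R D) = ⊥ ∧
      t - algebraMap R D (algebraMap k R c) ∈ P := by
  letI : Algebra R[X] D := (Polynomial.aeval t).toRingHom.toAlgebra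
  haveI : IsScalarTower R R[X] D := IsScalarTower.of_algebraMap_eq fun r => (Polynomial.aeval_C t r).symm
  haveI : Algebra.FiniteType R[X] D := Algebra.FiniteType.of_restrictScalars_finiteType R R[X] D
  obtain ⟨f, hf, -, hfree⟩ :=
    FlatH4.exists_free_and_finitePresentation_of_isReduced (R := R[X]) (S := D) (one_ne_zero (α := R[X]))
  let R' := Localization.Away f
  haveI : Module.Free R' (R' ⊗[R[X]] D) := (hfree R' (IsLocalization.Away.algebraMap_isUnit f)).1
  have hinj : Function.Injective (algebraMap R[X] D) := (injective_iff_map_eq_zero _).2 fun g hg =>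
    by_contra fun h => ht ⟨g, h, hg⟩
  haveI : Nontrivial (R' ⊗[R[X]] D) := by
    have hu : IsUnit (algebraMap R[X] (FractionRing D) f) :=
      IsUnit.mk0 _ (by
        rw [IsScalarTower.algebraMap_apply R[X] D (FractionRing D)]
        exact fun h => hf (hinj ((IsFractionRing.injective D (FractionRing D))
          (h.trans (map_zero _).symm) |>.trans (map_zero _).symm)))
    let ψ : R' ⊗[R[X]] D →ₐ[R[X]] FractionRing D := Algebra.TensorProduct.lift
      (IsLocalization.liftAlgHom (M := Submonoid.powers f) (f := Algebra.ofId R[X] (FractionRing D))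
        (fun y => by
          obtain ⟨n, hn⟩ := y.2
          rw [← hn, map_pow]
          exact hu.pow n))
      (IsScalarTower.toAlgHom R[X] D (FractionRing D)) (fun _ _ => Commute.all _ _)
    exact ψ.toRingHom.domain_nontrivial
  obtain ⟨c, hc⟩ : ∃ c : k, f.eval (algebraMap k R c) ≠ 0 := by
    by_contra! h
    exact hf (Polynomial.eq_zero_of_infinite_isRoot f ((Set.infinite_range_of_injective
      (algebraMap k R).injective).mono (by rintro _ ⟨c, rfl⟩; exact h c)))
  let q : Ideal R[X] := RingHom.ker (Polynomial.evalRingHom (algebraMap k R c))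
  haveI : q.IsPrime := RingHom.ker_isPrime _
  have hdis : Disjoint (Submonoid.powers f : Set R[X]) (q : Set R[X]) := by
    rw [Set.disjoint_left]
    rintro _ ⟨n, rfl⟩ h
    exact hc (pow_eq_zero_iff'.1 ((map_pow (Polynomial.evalRingHom (algebraMap k R c)) f n).symm.trans h)).1
  haveI hq' : (q.map (algebraMap R[X] R')).IsPrime :=
    IsLocalization.isPrime_of_isPrime_disjoint (Submonoid.powers f) R' q inferInstance hdis
  obtain ⟨P', hP'⟩ := PrimeSpectrum.comap_surjective_of_faithfullyFlat (A := R') (B := R' ⊗[R[X]] D)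
    ⟨q.map (algebraMap R[X] R'), hq'⟩
  let incl : D →ₐ[R[X]] R' ⊗[R[X]] D := Algebra.TensorProduct.includeRight
  have hP : (P'.asIdeal.comap incl.toRingHom).comap (algebraMap R[X] D) = q := by
    rw [Ideal.comap_comap, show incl.toRingHom.comp (algebraMap R[X] D) = algebraMap R[X] _ from incl.comp_algebraMap,
      IsScalarTower.algebraMap_eq R[X] R' (R' ⊗[R[X]] D),
      ← Ideal.comap_comap, show P'.asIdeal.comap (algebraMap R' (R' ⊗[R[X]] D)) = q.map (algebraMap R[X] R') from
        congrArg PrimeSpectrum.asIdeal hP']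
    exact IsLocalization.under_map_of_isPrime_disjoint (Submonoid.powers f) R' inferInstance hdis
  refine ⟨c, P'.asIdeal.comap incl.toRingHom, inferInstance, ?_, ?_⟩
  · rw [IsScalarTower.algebraMap_eq R R[X] D, ← Ideal.comap_comap, hP]
    refine eq_bot_iff.2 fun r hr => ?_
    simpa [q] using hr
  · have hm : (X - C (algebraMap k R c) : R[X]) ∈ q := by simp [q]
    rw [← hP, Ideal.mem_comap] at hm
    have e : algebraMap R[X] D (X - C (algebraMap k R c)) = t - algebraMap R D (algebraMap k R c) := by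
      show Polynomial.aeval t (X - C (algebraMap k R c)) = _
      simp
    rwa [e] at hm

variable {k R C : Type u} [Field k] [CommRing R] [IsDomain R] [CommRing C] [Algebra k R] [Algebra k C]

/-- The primes over the generic point through the first map and over `p` through the second. -/
def GoodSet (α β : R →ₐ[k] C) (p : Ideal R) : Set (Ideal C) :=
  {P | P.IsPrime ∧ P.comap α.toRingHom = ⊥ ∧ P.comap β.toRingHom = p}

/-- A prime `p` meeting the orbit of the generic point in finitely many points. -/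
theorem exists_good [Infinite k] [Algebra.FiniteType k R] [Algebra.FiniteType k C] (α β : R →ₐ[k] C)
    (hint : ∀ c : C, IsIntegral (Algebra.adjoin k (Set.range α ∪ Set.range β)) c)
    (hne : ∃ P : Ideal C, P.IsPrime ∧ P.comap α.toRingHom = ⊥) :
    ∃ p : Ideal R, (GoodSet α β p).Nonempty ∧ (GoodSet α β p).Finite ∧
      ∀ P ∈ GoodSet α β p, ∀ c : C, ∃ f : R[X], f ≠ 0 ∧ eval₂ α.toRingHom c f ∈ P := by
  haveI : IsNoetherianRing R := Algebra.FiniteType.isNoetherianRing k R
  haveI : IsNoetherianRing C := Algebra.FiniteType.isNoetherianRing k C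
  obtain ⟨P₀, hP₀, hP₀α⟩ := hne
  obtain ⟨p, hp, hmax⟩ := set_has_maximal_iff_noetherian.2 (inferInstanceAs (IsNoetherian R R))
    {p : Ideal R | (GoodSet α β p).Nonempty} ⟨P₀.comap β.toRingHom, P₀, hP₀, hP₀α, rfl⟩
  have key : ∀ P ∈ GoodSet α β p, ∀ c : C, ∃ f : R[X], f ≠ 0 ∧ eval₂ α.toRingHom c f ∈ P := by
    intro P ⟨hP, hα, hβ⟩
    haveI := hP
    letI : Algebra R (C ⧸ P) := ((Ideal.Quotient.mk P).comp α.toRingHom).toAlgebra
    haveI : IsScalarTower k R (C ⧸ P) :=
      IsScalarTower.of_algebraMap_eq fun x => congrArg (Ideal.Quotient.mk P) (α.commutes x).symm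
    haveI : Algebra.FiniteType k (C ⧸ P) :=
      Algebra.FiniteType.of_surjective (Ideal.Quotient.mkₐ k P) (Ideal.Quotient.mkₐ_surjective k P)
    haveI : Algebra.FiniteType R (C ⧸ P) := Algebra.FiniteType.of_restrictScalars_finiteType k R (C ⧸ P)
    have hinj : Function.Injective (algebraMap R (C ⧸ P)) := (injective_iff_map_eq_zero _).2 fun r hr => by
      have h' : α r ∈ P := Ideal.Quotient.eq_zero_iff_mem.1 hr
      have h : r ∈ P.comap α.toRingHom := h'
      rwa [hα, Ideal.mem_bot] at h
    have halg : ∀ r : R, IsAlgebraic R (Ideal.Quotient.mk P (β r)) := by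
      intro r
      by_contra htr
      obtain ⟨c, P', hP', hP'α, hmem⟩ := exists_prime_sub_const (k := k) (Ideal.Quotient.mk P (β r)) htr
      let Q := P'.comap (Ideal.Quotient.mk P)
      have hPQ : P ≤ Q := fun x hx => by
        show Ideal.Quotient.mk P x ∈ P'
        rw [Ideal.Quotient.eq_zero_iff_mem.2 hx]
        exact zero_mem _
      have hQ : Q.comap β.toRingHom ∈ {p : Ideal R | (GoodSet α β p).Nonempty} :=
        ⟨Q, inferInstance, by rw [Ideal.comap_comap]; exact hP'α, rfl⟩
      have hpQ : p ≤ Q.comap β.toRingHom := hβ ▸ Ideal.comap_mono hPQ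
      have hmem' : r - algebraMap k R c ∈ Q.comap β.toRingHom := by
        show Ideal.Quotient.mk P (β (r - algebraMap k R c)) ∈ P'
        rw [map_sub, map_sub, AlgHom.commutes]
        have e : Ideal.Quotient.mk P (algebraMap k C c) = algebraMap R (C ⧸ P) (algebraMap k R c) :=
          (IsScalarTower.algebraMap_apply k R (C ⧸ P) c)
        rwa [e]
      rw [← eq_of_le_of_not_lt hpQ (hmax _ hQ), ← hβ] at hmem'
      refine htr ?_
      have e : Ideal.Quotient.mk P (β r) = algebraMap R (C ⧸ P) (algebraMap k R c) := by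
        rw [show algebraMap R (C ⧸ P) (algebraMap k R c) = Ideal.Quotient.mk P (α (algebraMap k R c)) from rfl,
          α.commutes, ← β.commutes, Ideal.Quotient.eq, ← map_sub]
        exact hmem'
      rw [e]
      exact isAlgebraic_algebraMap _
    intro c
    haveI : FaithfulSMul R (C ⧸ P) := (faithfulSMul_iff_algebraMap_injective R (C ⧸ P)).2 hinj
    let S := Subalgebra.algebraicClosure R (C ⧸ P)
    have hS : ∀ x ∈ Algebra.adjoin k (Set.range α ∪ Set.range β), Ideal.Quotient.mk P x ∈ S := by
      intro x hx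
      have hle : Algebra.adjoin k (Set.range α ∪ Set.range β) ≤
          (S.restrictScalars k).comap (Ideal.Quotient.mkₐ k P) := Algebra.adjoin_le (by
        rintro _ (⟨r, rfl⟩ | ⟨r, rfl⟩)
        · exact Subalgebra.algebraMap_mem S r
        · exact halg r)
      exact hle hx
    have hc : IsIntegral S (Ideal.Quotient.mk P c) := by
      obtain ⟨g, hg, hgc⟩ := hint c
      let ι : Algebra.adjoin k (Set.range α ∪ Set.range β) →+* S :=
        ((Ideal.Quotient.mk P).comp (Algebra.adjoin k (Set.range α ∪ Set.range β)).val.toRingHom).codRestrict S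
          (fun x => hS x.1 x.2)
      refine ⟨g.map ι, hg.map ι, ?_⟩
      rw [eval₂_map]
      have := congrArg (Ideal.Quotient.mk P) hgc
      rw [map_zero, hom_eval₂] at this
      exact this
    obtain ⟨f, hf, hfc⟩ : IsAlgebraic R (Ideal.Quotient.mk P c) := by
      haveI : Algebra.IsAlgebraic R S := Subalgebra.isAlgebraic_iff _ |>.1 fun x hx => hx
      exact IsAlgebraic.restrictScalars R hc.isAlgebraic
    refine ⟨f, hf, Ideal.Quotient.eq_zero_iff_mem.1 ?_⟩
    rw [hom_eval₂]
    exact hfc
  refine ⟨p, hp, ?_, key⟩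
  refine (Ideal.finite_minimalPrimes_of_isNoetherianRing C (Ideal.map β.toRingHom p)).subset fun P hP => ?_
  obtain ⟨hPp, hα, hβ⟩ := hP
  refine ⟨⟨hPp, hβ ▸ Ideal.map_comap_le⟩, fun Q ⟨hQ, hQp⟩ hQP => ?_⟩
  by_contra hne
  obtain ⟨x, hxP, hxQ⟩ := SetLike.not_le_iff_exists.1 hne
  have hQα : Q.comap α.toRingHom = ⊥ := le_bot_iff.1 (hα ▸ Ideal.comap_mono hQP)
  have hQβ : Q.comap β.toRingHom = p :=
    le_antisymm (hβ ▸ Ideal.comap_mono hQP) (Ideal.map_le_iff_le_comap.1 hQp)
  letI : Algebra R (C ⧸ Q) := ((Ideal.Quotient.mk Q).comp α.toRingHom).toAlgebra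
  obtain ⟨f, hf, hfx⟩ := key Q ⟨hQ, hQα, hQβ⟩ x
  haveI := hQ
  have halg : IsAlgebraic R (Ideal.Quotient.mk Q x) := ⟨f, hf, by
    rw [← Ideal.Quotient.eq_zero_iff_mem, hom_eval₂] at hfx
    exact hfx⟩
  obtain ⟨r, hr, d, hd⟩ := halg.exists_nonzero_dvd (mem_nonZeroDivisors_of_ne_zero
    (fun h => hxQ (Ideal.Quotient.eq_zero_iff_mem.1 h)))
  obtain ⟨d, rfl⟩ := Ideal.Quotient.mk_surjective d
  rw [← map_mul] at hd
  have hrP : r ∈ P.comap α.toRingHom := by
    have h1 : α r - x * d ∈ Q := Ideal.Quotient.eq.1 hd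
    have h2 := P.add_mem (hQP h1) (P.mul_mem_right d hxP)
    rwa [sub_add_cancel] at h2
  rw [hα, Ideal.mem_bot] at hrP
  exact hr hrP

/-- Points of the good primes with values in a field over the generic point. -/
abbrev GPts (α β : R →ₐ[k] C) (p : Ideal R) {M : Type u} [Field M] [Algebra k M] (e : R →ₐ[k] M) : Type u :=
  {c : C →ₐ[k] M // c.comp α = e ∧ RingHom.ker (c.comp β).toRingHom = p}

variable {α β : R →ₐ[k] C} {p : Ideal R}
  (hfin : (GoodSet α β p).Finite) (hkey : ∀ P ∈ GoodSet α β p, ∀ c : C, ∃ f : R[X], f ≠ 0 ∧ eval₂ α.toRingHom c f ∈ P)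
  {M : Type u} [Field M] [Algebra k M] (e : R →ₐ[k] M) (he : Function.Injective e)

include he

theorem ker_mem_goodSet (c : GPts α β p e) : RingHom.ker c.1.toRingHom ∈ GoodSet α β p := by
  refine ⟨RingHom.ker_isPrime _, ?_, ?_⟩
  · rw [RingHom.comap_ker, ← RingHom.injective_iff_ker_eq_bot]
    show Function.Injective (c.1.comp α)
    rw [c.2.1]
    exact he
  · rw [RingHom.comap_ker]
    exact c.2.2

include hkey

theorem exists_poly (c : GPts α β p e) (x : C) :
    ∃ f : R[X], f.map e.toRingHom ≠ 0 ∧ eval₂ α.toRingHom x f ∈ RingHom.ker c.1.toRingHom ∧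
      (f.map e.toRingHom).IsRoot (c.1 x) := by
  obtain ⟨f, hf, hfx⟩ := hkey _ (ker_mem_goodSet e he c) x
  refine ⟨f, (Polynomial.map_ne_zero_iff he).2 hf, hfx, ?_⟩
  have h : eval₂ (c.1.toRingHom.comp α.toRingHom) (c.1 x) f = 0 := by
    rw [RingHom.mem_ker, hom_eval₂] at hfx
    exact hfx
  rw [IsRoot, eval_map]
  have e1 : c.1.toRingHom.comp α.toRingHom = e.toRingHom := congrArg AlgHom.toRingHom c.2.1
  rwa [e1] at h

include hfin

theorem finite_gpts [Algebra.FiniteType k C] : Finite (GPts α β p e) := by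
  classical
  obtain ⟨s, hs⟩ := (inferInstance : Algebra.FiniteType k C).out
  choose f hf hfx using hkey
  let V : C → Set M := fun x => ⋃ (P : Ideal C) (h : P ∈ GoodSet α β p), {y | ((f P h x).map e.toRingHom).IsRoot y}
  have hV : ∀ x, (V x).Finite := fun x => by
    refine hfin.biUnion' fun P h => ?_
    exact Polynomial.finite_setOf_isRoot ((Polynomial.map_ne_zero_iff he).2 (hf P h x))
  haveI : ∀ x : s, Finite (V x.1) := fun x => (hV x.1).to_subtype
  refine Finite.of_injective (fun (c : GPts α β p e) (x : s) => (⟨c.1 x.1, ?_⟩ : V x.1)) fun c c' h => ?_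
  · simp only [V, Set.mem_iUnion, Set.mem_setOf_eq]
    refine ⟨_, ker_mem_goodSet e he c, ?_⟩
    have h := hfx _ (ker_mem_goodSet e he c) x.1
    rw [RingHom.mem_ker, hom_eval₂] at h
    rw [IsRoot, eval_map]
    have e1 : c.1.toRingHom.comp α.toRingHom = e.toRingHom := congrArg AlgHom.toRingHom c.2.1
    rwa [e1] at h
  · exact Subtype.ext (AlgHom.ext_of_adjoin_eq_top hs fun x hx => congrArg Subtype.val (congrFun h ⟨x, hx⟩))

omit hfin in
theorem nonempty_gpts [IsAlgClosed M] (hne : (GoodSet α β p).Nonempty) : Nonempty (GPts α β p e) := by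
  obtain ⟨P, hP, hα, hβ⟩ := hne
  haveI := hP
  letI : Algebra R M := e.toRingHom.toAlgebra
  letI : Algebra R (C ⧸ P) := ((Ideal.Quotient.mk P).comp α.toRingHom).toAlgebra
  haveI : FaithfulSMul R M := (faithfulSMul_iff_algebraMap_injective R M).2 he
  haveI : FaithfulSMul R (C ⧸ P) :=
    (faithfulSMul_iff_algebraMap_injective R (C ⧸ P)).2 ((injective_iff_map_eq_zero _).2 fun r hr => by
      have h' : α r ∈ P := Ideal.Quotient.eq_zero_iff_mem.1 hr
      have h : r ∈ P.comap α.toRingHom := h'
      rwa [hα, Ideal.mem_bot] at h)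
  haveI : Algebra.IsAlgebraic R (C ⧸ P) := ⟨fun y => by
    obtain ⟨y, rfl⟩ := Ideal.Quotient.mk_surjective y
    obtain ⟨f, hf, hfy⟩ := hkey P ⟨hP, hα, hβ⟩ y
    refine ⟨f, hf, ?_⟩
    rw [← Ideal.Quotient.eq_zero_iff_mem, hom_eval₂] at hfy
    exact hfy⟩
  let φ : C ⧸ P →ₐ[R] M := IsAlgClosed.lift
  have hφ : Function.Injective φ := by
    rw [injective_iff_map_eq_zero]
    intro y hy
    by_contra h0
    obtain ⟨r, hr, d, hd⟩ := (Algebra.IsAlgebraic.isAlgebraic (R := R) y).exists_nonzero_dvd
      (mem_nonZeroDivisors_of_ne_zero h0)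
    have h := congrArg φ hd
    rw [φ.commutes, map_mul, hy, MulZeroClass.zero_mul] at h
    exact hr (he (h.trans (map_zero e).symm))
  refine ⟨⟨{ φ.toRingHom.comp (Ideal.Quotient.mk P) with commutes' := fun x => ?_ }, AlgHom.ext φ.commutes, ?_⟩⟩
  · show φ (Ideal.Quotient.mk P (algebraMap k C x)) = _
    rw [← α.commutes]
    exact (φ.commutes _).trans (e.commutes x)
  · ext r
    show φ (Ideal.Quotient.mk P (β r)) = 0 ↔ _
    rw [map_eq_zero_iff φ hφ, Ideal.Quotient.eq_zero_iff_mem, ← hβ]
    rfl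

omit hfin in
/-- Restriction along a map of algebraically closed fields is bijective on these points. -/
theorem bijective_comp [IsAlgClosed M] {M' : Type u} [Field M'] [Algebra k M'] (ω : M →ₐ[k] M') :
    Function.Bijective fun c : GPts α β p e =>
      (⟨ω.comp c.1, by rw [AlgHom.comp_assoc, c.2.1], by
        rw [AlgHom.comp_assoc]
        ext r
        show ω (c.1 (β r)) = 0 ↔ r ∈ p
        exact (map_eq_zero ω).trans (SetLike.ext_iff.1 c.2.2 r)⟩ : GPts α β p (ω.comp e)) := by
  refine ⟨fun c c' h => Subtype.ext (AlgHom.ext fun x => ω.injective (AlgHom.congr_fun (congrArg Subtype.val h) x)),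
    fun c' => ?_⟩
  have hinj' : Function.Injective (ω.comp e) := ω.injective.comp he
  have hmem : ∀ x, c'.1 x ∈ ω.range := fun x => by
    obtain ⟨f, hf, -, hroot⟩ := exists_poly hkey (ω.comp e) hinj' c' x
    have h0 : f.map e.toRingHom ≠ 0 := fun h => hf (by
      rw [show (ω.comp e).toRingHom = ω.toRingHom.comp e.toRingHom from rfl, ← Polynomial.map_map, h,
        Polynomial.map_zero])
    obtain ⟨y, hy⟩ := Polynomial.Splits.mem_range_of_isRoot (i := ω.toRingHom) (IsAlgClosed.splits _) h0
      (by rw [Polynomial.map_map]; exact hroot)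
    exact ⟨y, hy⟩
  choose c hc using hmem
  let cc : C →ₐ[k] M :=
    { toFun := c
      map_one' := ω.injective ((hc 1).trans ((map_one c'.1).trans (map_one ω).symm))
      map_mul' := fun x y => ω.injective ((hc _).trans ((map_mul c'.1 x y).trans
        (((map_mul ω _ _).trans (congrArg₂ _ (hc x) (hc y))).symm)))
      map_zero' := ω.injective ((hc 0).trans ((map_zero c'.1).trans (map_zero ω).symm))
      map_add' := fun x y => ω.injective ((hc _).trans ((map_add c'.1 x y).trans
        (((map_add ω _ _).trans (congrArg₂ _ (hc x) (hc y))).symm)))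
      commutes' := fun x => ω.injective ((hc _).trans ((c'.1.commutes x).trans (ω.commutes x).symm)) }
  have hcc : ω.comp cc = c'.1 := AlgHom.ext hc
  refine ⟨⟨cc, AlgHom.ext fun r => ω.injective ?_, ?_⟩, Subtype.ext hcc⟩
  · show (ω.comp cc) (α r) = _
    rw [hcc]
    exact AlgHom.congr_fun c'.2.1 r
  · ext r
    show cc (β r) = 0 ↔ r ∈ p
    rw [← map_eq_zero ω, show ω (cc (β r)) = c'.1 (β r) from hc _]
    exact SetLike.ext_iff.1 c'.2.2 r

end Groth.Agent.TorsorNorm25
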