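import Groth.Agent.Lib.TorsorNorm25.PowDescend
import Groth.Agent.Lib.TorsorNorm25.FiniteStab
import Groth.Agent.Lib.TorsorNorm25.GoodPrime
import Groth.Agent.Lib.WeilExt.Apply
import Groth.Agent.Lib.AbRigid.Connected
import Groth.Agent.Lib.AbRigid.Epi
import Groth.Agent.Lib.AbRigid.SmoothGI
import Groth.Agent.Lib.CubeField.Simple
import Mathlib.AlgebraicGeometry.Group.Abelian
import Mathlib.AlgebraicGeometry.FunctionField
import Mathlib.RingTheory.Localization.FractionRing

/-!
# An abelian variety acting faithfully on a smooth variety is, up to isogeny, a direct factor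
-/

set_option autoImplicit false
set_option linter.style.haveILetI false
set_option backward.isDefEq.respectTransparency false
set_option synthInstance.maxHeartbeats 400000

universe u

open CategoryTheory CategoryTheory.Limits MonoidalCategory CartesianMonoidalCategory MonObj AlgebraicGeometry
open TensorProduct
open scoped GrpObj

noncomputable section

namespace Groth.Agent.TorsorNorm25

open WeilRes21

variable {k : Type u} [Field k]

/-- A field point at the generic point comes from an injection of the coordinate ring of a chart. -/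
theorem exists_injective_point {X : Over (Spec (CommRingCat.of k))} [AlgebraicGeometry.IsIntegral X.left]
    {R : Type u} [CommRing R] [IsDomain R] [Algebra k R] (iU : specOver k R ⟶ X) [IsOpenImmersion iU.left]
    {M : Type u} [Field M] [Algebra k M] (m : specOver k M ⟶ X)
    (hm : m.left (IsLocalRing.closedPoint M) = genericPoint X.left) :
    ∃ e : R →ₐ[k] M, Function.Injective e ∧ specMap e ≫ iU = m := by
  haveI : IrreducibleSpace (specOver k R).left := inferInstanceAs (IrreducibleSpace (PrimeSpectrum R))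
  have hg : iU.left (genericPoint (specOver k R).left) = genericPoint X.left :=
    genericPoint_eq_of_isOpenImmersion iU.left
  have hr : Set.range m.left ⊆ Set.range iU.left := by
    rintro _ ⟨P, rfl⟩
    haveI : Subsingleton (specOver k M).left := inferInstanceAs (Subsingleton (PrimeSpectrum M))
    exact ⟨genericPoint (specOver k R).left, by rw [Subsingleton.elim P (IsLocalRing.closedPoint M), hm, hg]⟩
  let g : specOver k M ⟶ specOver k R := Over.homMk (IsOpenImmersion.lift iU.left m.left hr) (by
    rw [← Over.w iU, IsOpenImmersion.lift_fac_assoc]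
    exact Over.w m)
  have hgm : g ≫ iU = m := Over.OverMorphism.ext (IsOpenImmersion.lift_fac _ _ hr)
  refine ⟨algHomEquiv g, ?_, by rw [← algHomEquiv_symm_apply, Equiv.symm_apply_apply, hgm]⟩
  have hpt : g.left (IsLocalRing.closedPoint M) = genericPoint (specOver k R).left := by
    refine iU.left.isOpenEmbedding.injective ?_
    rw [hg, ← hm, ← hgm]
    rfl
  have h1 : (algHomEquiv g) = algHomEquiv g := rfl
  have h2 : g = specMap (algHomEquiv g) := (algHomEquiv.symm_apply_apply g).symm
  rw [h2] at hpt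
  have h3 : PrimeSpectrum.comap (algHomEquiv g).toRingHom (IsLocalRing.closedPoint M) = ⊥ :=
    hpt.trans (genericPoint_eq_bot_of_affine (CommRingCat.of R))
  have h4 := congrArg PrimeSpectrum.asIdeal h3
  have h5 : (IsLocalRing.maximalIdeal M).comap (algHomEquiv g).toRingHom = ⊥ := h4
  rw [IsLocalRing.maximalIdeal_eq_bot] at h5
  exact (RingHom.injective_iff_ker_eq_bot _).2 h5

variable [IsAlgClosed k] {A X : Over (Spec (CommRingCat.of k))} [GrpObj A]
  [IsProper A.hom] [Smooth A.hom] [ConnectedSpace A.left] [LocallyOfFiniteType X.hom] [QuasiCompact X.hom]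
  [IsSeparated X.hom] [AlgebraicGeometry.IsIntegral X.left] (a : AlgGrp.Action A X)
  (hfaith : ∀ g : 𝟙_ (Over (Spec (CommRingCat.of k))) ⟶ A, lift (toUnit X ≫ g) (𝟙 X) ≫ a.act = 𝟙 X → g = η[A])
  {R : Type u} [CommRing R] [Algebra k R] (iU : specOver k R ⟶ X) [IsOpenImmersion iU.left]

include hfaith

/-- The part of `A × X` lying over `U × U` is the spectrum of a ring integral over the two images of `R`. -/
theorem exists_double_chart : ∃ (C : Type u) (_ : CommRing C) (_ : Algebra k C) (α β : R →ₐ[k] C)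
    (j : specOver k C ⟶ A ⊗ X), IsOpenImmersion j.left ∧ Algebra.FiniteType k C ∧
    (∀ c : C, IsIntegral (Algebra.adjoin k (Set.range α ∪ Set.range β)) c) ∧
    j ≫ a.act = specMap α ≫ iU ∧ j ≫ snd A X = specMap β ≫ iU ∧
    ∀ {M : Type u} [CommRing M] [Algebra k M] (m : specOver k M ⟶ A ⊗ X) (e₁ e₂ : R →ₐ[k] M),
      m ≫ a.act = specMap e₁ ≫ iU → m ≫ snd A X = specMap e₂ ≫ iU →
      ∃ c : C →ₐ[k] M, specMap c ≫ j = m ∧ c.comp α = e₁ ∧ c.comp β = e₂ := by
  let P2 := specOver k R ⊗ specOver k R
  let P := lift a.act (snd A X)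
  haveI : IsFinite P.left := isFinite_actSnd a hfaith
  let Q := pullback P (iU ⊗ₘ iU)
  have sq := IsPullback.of_hasPullback P (iU ⊗ₘ iU)
  have sq' := sq.map (Over.forget _)
  haveI : IsAffine P2.left := inferInstanceAs (IsAffine (pullback (specOver k R).hom (specOver k R).hom))
  haveI hq : IsFinite (pullback.snd P (iU ⊗ₘ iU)).left := MorphismProperty.of_isPullback (P := @IsFinite) sq' ‹_›
  haveI : IsAffine Q.left := isAffine_of_isAffineHom (pullback.snd P (iU ⊗ₘ iU)).left
  haveI : IsOpenImmersion (iU ⊗ₘ iU).left := by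
    rw [Over.tensorHom_left]; infer_instance
  haveI : IsOpenImmersion (pullback.fst P (iU ⊗ₘ iU)).left :=
    MorphismProperty.of_isPullback (P := @IsOpenImmersion) sq'.flip ‹_›
  obtain ⟨C, _, _, ⟨ι'⟩⟩ := exists_iso_specOver Q
  haveI : IsIso ι'.inv.left := inferInstanceAs (IsIso ((Over.forget _).map ι'.inv))
  let j : specOver k C ⟶ A ⊗ X := ι'.inv ≫ pullback.fst P (iU ⊗ₘ iU)
  let q : specOver k C ⟶ P2 := ι'.inv ≫ pullback.snd P (iU ⊗ₘ iU)
  haveI : IsOpenImmersion j.left := inferInstanceAs (IsOpenImmersion (ι'.inv.left ≫ (pullback.fst P (iU ⊗ₘ iU)).left))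
  haveI : IsFinite q.left := inferInstanceAs (IsFinite (ι'.inv.left ≫ (pullback.snd P (iU ⊗ₘ iU)).left))
  let α := algHomEquiv (q ≫ fst _ _)
  let β := algHomEquiv (q ≫ snd _ _)
  have hα : specMap α = q ≫ fst _ _ := algHomEquiv.symm_apply_apply _
  have hβ : specMap β = q ≫ snd _ _ := algHomEquiv.symm_apply_apply _
  have hjq : j ≫ P = q ≫ (iU ⊗ₘ iU) := by
    simp only [j, q, Category.assoc, pullback.condition]
  refine ⟨C, _, _, α, β, j, inferInstance, ?_, ?_, ?_, ?_, ?_⟩
  · haveI : LocallyOfFiniteType (A ⊗ X).hom :=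
      inferInstanceAs (LocallyOfFiniteType (pullback.fst A.hom X.hom ≫ A.hom))
    haveI : LocallyOfFiniteType (specOver k C).hom := by rw [← Over.w j]; infer_instance
    exact finiteType_of_locallyOfFiniteType (Iso.refl (specOver k C))
  · let θ : R ⊗[k] R →ₐ[k] C := Algebra.TensorProduct.lift α β fun _ _ => Commute.all _ _
    have hθ : q.left = Spec.map (CommRingCat.ofHom θ.toRingHom) ≫ (pullbackSpecIso k R R).inv := by
      apply pullback.hom_ext
      · rw [Category.assoc]
        erw [pullbackSpecIso_inv_fst]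
        rw [← Spec.map_comp]
        refine (congrArg CommaMorphism.left hα).symm.trans ?_
        show Spec.map (CommRingCat.ofHom α.toRingHom) = _
        congr 1
        ext r
        show α r = θ (r ⊗ₜ 1)
        simp [θ]
      · rw [Category.assoc]
        erw [pullbackSpecIso_inv_snd]
        rw [← Spec.map_comp]
        refine (congrArg CommaMorphism.left hβ).symm.trans ?_
        show Spec.map (CommRingCat.ofHom β.toRingHom) = _
        congr 1
        ext r
        show β r = θ (1 ⊗ₜ r)
        simp [θ]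
    have hfin : θ.toRingHom.Finite := by
      have h : IsFinite (Spec.map (CommRingCat.ofHom θ.toRingHom)) := by
        have e : Spec.map (CommRingCat.ofHom θ.toRingHom) = q.left ≫ (pullbackSpecIso k R R).hom := by
          rw [hθ, Category.assoc, Iso.inv_hom_id, Category.comp_id]
        rw [e]; infer_instance
      exact (IsFinite.SpecMap_iff _).1 h
    intro c
    obtain ⟨g, hg, hgc⟩ := hfin.to_isIntegral c
    have hmem : ∀ z, θ z ∈ Algebra.adjoin k (Set.range α ∪ Set.range β) := fun z => by
      induction z using TensorProduct.induction_on with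
      | zero => simp
      | tmul x y =>
        rw [Algebra.TensorProduct.lift_tmul]
        exact mul_mem (Algebra.subset_adjoin (Or.inl ⟨x, rfl⟩)) (Algebra.subset_adjoin (Or.inr ⟨y, rfl⟩))
      | add x y hx hy => rw [map_add]; exact add_mem hx hy
    refine ⟨g.map (θ.toRingHom.codRestrict (Algebra.adjoin k (Set.range α ∪ Set.range β)) hmem), hg.map _, ?_⟩
    rw [Polynomial.eval₂_map]
    exact hgc
  · have h := congrArg (· ≫ fst X X) hjq
    simp only [P, Category.assoc, lift_fst, tensorHom_fst] at h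
    rw [h, hα]
    simp only [q, Category.assoc]
  · have h := congrArg (· ≫ snd X X) hjq
    simp only [P, Category.assoc, lift_snd, tensorHom_snd] at h
    rw [h, hβ]
    simp only [q, Category.assoc]
  · intro M _ _ m e₁ e₂ h₁ h₂
    have hc : m ≫ P = lift (specMap e₁) (specMap e₂) ≫ (iU ⊗ₘ iU) := by
      rw [comp_lift, h₁, h₂, lift_map]
    let g : specOver k M ⟶ specOver k C := pullback.lift m (lift (specMap e₁) (specMap e₂)) hc ≫ ι'.hom
    have hg : specMap (algHomEquiv g) = g := algHomEquiv.symm_apply_apply g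
    have hgq : g ≫ q = lift (specMap e₁) (specMap e₂) := by simp [g, q]
    refine ⟨algHomEquiv g, by rw [hg]; simp [g, j], ?_, ?_⟩
    · apply algHomEquiv.symm.injective
      rw [algHomEquiv_symm_apply, algHomEquiv_symm_apply, ← specMap_comp, hg, hα, ← Category.assoc, hgq, lift_fst]
    · apply algHomEquiv.symm.injective
      rw [algHomEquiv_symm_apply, algHomEquiv_symm_apply, ← specMap_comp, hg, hβ, ← Category.assoc, hgq, lift_snd]

set_option maxHeartbeats 1600000 in
/-- The norm of a faithful action of an abelian variety. -/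
theorem exists_action_norm [Smooth X.hom] :
    ∃ (φ : X ⟶ A) (n : ℕ), 0 < n ∧ a.act ≫ φ = (snd A X ≫ φ) * fst A X ^ n := by
  classical
  haveI := AbRigid.geometricallyReduced_of_smooth A.hom
  haveI : GeometricallyIntegral A.hom := AbRigid.geometricallyIntegral_of_connected A
  haveI := isCommMonObj_of_isProper_of_geometricallyIntegral A
  haveI := AbRigid.geometricallyReduced_of_smooth X.hom
  haveI : GeometricallyIntegral (A ⊗ X).hom := by
    haveI : GeometricallyIntegral X.hom := CubeField.geometricallyIntegral_of_isIntegral X.hom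
    exact AbRigid.geometricallyIntegral_tensorObj A X
  haveI : AlgebraicGeometry.IsIntegral (A ⊗ X).left := GeometricallyIntegral.isIntegral_of_subsingleton (A ⊗ X).hom
  -- a chart around the generic point
  obtain ⟨U, hU, hξU, -⟩ := exists_isAffineOpen_mem_and_subset (X := X.left) (x := genericPoint X.left) (U := ⊤) trivial
  let WU : Over (Spec (CommRingCat.of k)) := Over.mk (U.ι ≫ X.hom)
  haveI : IsAffine WU.left := hU
  obtain ⟨R, _, _, ⟨jU⟩⟩ := exists_iso_specOver WU
  obtain ⟨iU, hiU⟩ : ∃ iU : specOver k R ⟶ X, iU = jU.inv ≫ Over.homMk U.ι rfl := ⟨_, rfl⟩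
  haveI : IsIso jU.inv.left := inferInstanceAs (IsIso ((Over.forget _).map jU.inv))
  haveI : IsOpenImmersion iU.left := by
    rw [hiU]; exact inferInstanceAs (IsOpenImmersion (jU.inv.left ≫ U.ι))
  haveI : Algebra.FiniteType k R := by
    haveI : LocallyOfFiniteType (specOver k R).hom := by rw [← Over.w iU]; infer_instance
    exact finiteType_of_locallyOfFiniteType (Iso.refl (specOver k R))
  haveI : IsDomain R := by
    haveI : Nonempty (specOver k R).left := ⟨jU.hom.left ⟨genericPoint X.left, hξU⟩⟩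
    haveI : Nonempty (Spec (CommRingCat.of R)) := ‹Nonempty (specOver k R).left›
    have h : AlgebraicGeometry.IsIntegral (Spec (CommRingCat.of R)) :=
      isIntegral_of_isOpenImmersion iU.left
    exact (affine_isIntegral_iff (CommRingCat.of R)).1 h
  obtain ⟨C, _, _, α, β, j, hj, hCft, hint, hjα, hjβ, hlift⟩ := exists_double_chart a hfaith iU
  haveI := hj; haveI := hCft
  -- the fraction field and its closure
  let E := FractionRing R
  let e₀ : R →ₐ[k] E := IsScalarTower.toAlgHom k R E
  have he₀ : Function.Injective e₀ := IsFractionRing.injective R E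
  have hne : ∃ P : Ideal C, P.IsPrime ∧ P.comap α.toRingHom = ⊥ := by
    obtain ⟨c, -, hcα, -⟩ := hlift (lift 1 (specMap e₀ ≫ iU)) e₀ e₀
      (AlgGrpBasic19.act_one a _) (lift_snd _ _)
    refine ⟨RingHom.ker c.toRingHom, RingHom.ker_isPrime _, ?_⟩
    rw [RingHom.comap_ker]
    exact (RingHom.injective_iff_ker_eq_bot _).1 (show Function.Injective (c.comp α) by rw [hcα]; exact he₀)
  haveI : Infinite k := inferInstance
  obtain ⟨p, hpne, hpfin, hkey⟩ := exists_good α β hint hne
  -- the norm
  let pt : ∀ {M : Type u} [Field M] [Algebra k M], (C →ₐ[k] M) → (specOver k M ⟶ A) :=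
    fun c => specMap c ≫ j ≫ fst A X
  let nrmC : ∀ {M : Type u} [Field M] [Algebra k M], (R →ₐ[k] M) → (specOver k M ⟶ A) :=
    fun e => ∏ᶠ c : GPts α β p e, pt c.1
  have hcomp : ∀ {M M' : Type u} [Field M] [Field M'] [Algebra k M] [Algebra k M'] [IsAlgClosed M]
      (e : R →ₐ[k] M) (_ : Function.Injective e) (ω : M →ₐ[k] M'),
      specMap ω ≫ nrmC e = nrmC (ω.comp e) ∧ Nat.card (GPts α β p e) = Nat.card (GPts α β p (ω.comp e)) := by
    intro M M' _ _ _ _ _ e he ω
    haveI := finite_gpts hpfin hkey e he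
    let φh : (specOver k M ⟶ A) →* (specOver k M' ⟶ A) :=
      { toFun := fun v => specMap ω ≫ v, map_one' := MonObj.comp_one _, map_mul' := fun v w => MonObj.comp_mul _ v w }
    refine ⟨?_, Nat.card_congr (Equiv.ofBijective _ (bijective_comp hkey e he ω))⟩
    show φh (∏ᶠ c : GPts α β p e, pt c.1) = _
    rw [φh.map_finprod (Set.toFinite _)]
    refine finprod_eq_of_bijective _ (bijective_comp hkey e he ω) fun c => ?_
    show specMap ω ≫ specMap c.1 ≫ j ≫ fst A X = specMap (ω.comp c.1) ≫ j ≫ fst A X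
    rw [← Category.assoc, specMap_comp]
  let Ω := AlgebraicClosure E
  let eΩ : R →ₐ[k] Ω := (IsScalarTower.toAlgHom k E Ω).comp e₀
  have heΩ : Function.Injective eΩ := (algebraMap E Ω).injective.comp he₀
  haveI := finite_gpts hpfin hkey eΩ heΩ
  haveI := nonempty_gpts hkey eΩ heΩ hpne
  set n := Nat.card (GPts α β p eΩ) with hn
  obtain ⟨m, hm, v₀, hv₀⟩ := exists_pow_descend (E := E) (nrmC eΩ) fun σ => by
    rw [(hcomp eΩ heΩ _).1]
    congr 1
    exact AlgHom.ext fun r => σ.commutes (e₀ r)
  -- spreading out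
  obtain ⟨B, _, _, hBft, iB, _, ψ, hψ⟩ := exists_chart v₀
  obtain ⟨sB, hsB⟩ := hBft.out
  obtain ⟨s, hs⟩ := IsLocalization.exist_integer_multiples_of_finset (nonZeroDivisors R) (sB.image ψ)
  let Rs := Localization.Away (s : R)
  have hsE : IsUnit (algebraMap R E (s : R)) := IsLocalization.map_units E s
  let lE : Rs →ₐ[R] E := IsLocalization.liftAlgHom (M := Submonoid.powers (s : R)) (f := Algebra.ofId R E) fun y => by
    obtain ⟨i, hi⟩ := y.2
    rw [← hi, map_pow]
    exact hsE.pow i
  have hlE : Function.Injective lE := by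
    refine (injective_iff_map_eq_zero _).2 fun z hz => ?_
    obtain ⟨⟨x, y⟩, hxy⟩ := IsLocalization.surj (Submonoid.powers (s : R)) z
    have h := congrArg lE hxy
    rw [map_mul, hz, MulZeroClass.zero_mul, lE.commutes] at h
    rw [he₀ (h.symm.trans (map_zero e₀).symm : e₀ x = e₀ 0), map_zero] at hxy
    exact (IsLocalization.map_units Rs y).mul_left_eq_zero.1 hxy
  let lk : Rs →ₐ[k] E := lE.restrictScalars k
  have hrange : ∀ b, ψ b ∈ lk.range := by
    intro b
    have hle : Algebra.adjoin k (sB : Set B) ≤ lk.range.comap ψ := Algebra.adjoin_le fun b hb => by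
      obtain ⟨r, hr⟩ := hs (ψ b) (Finset.mem_image_of_mem ψ hb)
      refine ⟨IsLocalization.mk' Rs r (⟨(s : R), Submonoid.mem_powers _⟩ : Submonoid.powers (s : R)), ?_⟩
      refine (hsE.mul_left_cancel ?_ : lE _ = ψ b)
      have h := congrArg lE (IsLocalization.mk'_spec' Rs r
        (⟨(s : R), Submonoid.mem_powers _⟩ : Submonoid.powers (s : R)))
      rw [map_mul, lE.commutes, lE.commutes, hr, Algebra.smul_def] at h
      exact h
    exact hle (hsB.ge trivial)
  choose ψs hψs using hrange
  let ψ' : B →ₐ[k] Rs :=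
    { toFun := ψs
      map_one' := hlE ((hψs 1).trans ((map_one ψ).trans (map_one lE).symm))
      map_mul' := fun x y => hlE ((hψs _).trans ((map_mul ψ x y).trans
        (((map_mul lE _ _).trans (congrArg₂ _ (hψs x) (hψs y))).symm)))
      map_zero' := hlE ((hψs 0).trans ((map_zero ψ).trans (map_zero lE).symm))
      map_add' := fun x y => hlE ((hψs _).trans ((map_add ψ x y).trans
        (((map_add lE _ _).trans (congrArg₂ _ (hψs x) (hψs y))).symm)))
      commutes' := fun x => hlE ((hψs _).trans ((ψ.commutes x).trans (lk.commutes x).symm)) }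
  let jR : specOver k Rs ⟶ X := specMap (IsScalarTower.toAlgHom k R Rs) ≫ iU
  haveI : IsOpenImmersion (Spec.map (CommRingCat.ofHom (algebraMap R Rs))) := IsOpenImmersion.of_isLocalization (s : R)
  haveI : IsOpenImmersion jR.left :=
    inferInstanceAs (IsOpenImmersion (Spec.map (CommRingCat.ofHom (algebraMap R Rs)) ≫ iU.left))
  let g' : specOver k Rs ⟶ A := specMap ψ' ≫ iB
  haveI : Nonempty (specOver k Rs).left :=
    ⟨(Spec.map (CommRingCat.ofHom lE.toRingHom)) (IsLocalRing.closedPoint E)⟩
  obtain ⟨φ', ⟨hφ'k, hφ'U⟩, -⟩ := WeilExt.exists_extension_of_isProper X A jR.left.opensRange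
    (jR.left.opensRange.2.dense ⟨_, ‹Nonempty (specOver k Rs).left›.some, rfl⟩)
    (jR.left.isoOpensRange.inv ≫ g'.left) (by
      rw [Category.assoc, Over.w g', ← Over.w jR, Scheme.Hom.isoOpensRange_inv_comp_assoc])
  let φ : X ⟶ A := Over.homMk φ' hφ'k
  have hjR : jR ≫ φ = g' := Over.OverMorphism.ext (by
    show jR.left ≫ φ' = g'.left
    rw [← Scheme.Hom.isoOpensRange_hom_ι jR.left, Category.assoc, hφ'U, Iso.hom_inv_id_assoc])
  have hv : specMap e₀ ≫ iU ≫ φ = v₀ := by
    rw [show e₀ = lk.comp (IsScalarTower.toAlgHom k R Rs) from AlgHom.ext fun r => (lE.commutes r).symm,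
      ← specMap_comp, Category.assoc]
    show specMap lk ≫ (specMap _ ≫ iU ≫ φ) = v₀
    rw [← Category.assoc _ iU φ, show specMap _ ≫ iU = jR from rfl, hjR, ← Category.assoc, specMap_comp,
      show lk.comp ψ' = ψ from AlgHom.ext hψs, hψ]
  -- the value at every field point over the generic point
  have hval : ∀ {M : Type u} [Field M] [Algebra k M] [IsAlgClosed M] (e : R →ₐ[k] M) (_ : Function.Injective e),
      specMap e ≫ iU ≫ φ = nrmC e ^ m ∧ Nat.card (GPts α β p e) = n := by
    intro M _ _ _ e he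
    let eE : E →ₐ[k] M := IsFractionRing.liftAlgHom he
    letI : Algebra E M := eE.toRingHom.toAlgebra
    let ω₀ : Ω →ₐ[E] M := IsAlgClosed.lift
    let ω : Ω →ₐ[k] M :=
      { ω₀.toRingHom with commutes' := fun c => (ω₀.commutes (algebraMap k E c)).trans (eE.commutes c) }
    have h1 : ω.comp (IsScalarTower.toAlgHom k E Ω) = eE := AlgHom.ext ω₀.commutes
    have h2 : eE.comp e₀ = e := AlgHom.ext fun r => by simp [eE, e₀]
    have h3 : ω.comp eΩ = e := by rw [← AlgHom.comp_assoc, h1, h2]
    obtain ⟨hc, hcard⟩ := hcomp eΩ heΩ ω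
    rw [h3] at hc hcard
    refine ⟨?_, hcard.symm⟩
    rw [← h3, ← specMap_comp, Category.assoc, ← specMap_comp, Category.assoc, hv, hv₀, MonObj.comp_pow, h3, hc]
  refine ⟨φ, n * m, Nat.mul_pos Nat.card_pos hm, ?_⟩
  -- equivariance at the generic point
  let W := A ⊗ X
  let M := AlgebraicClosure W.left.functionField
  let w₀ : Spec (CommRingCat.of M) ⟶ W.left :=
    Spec.map (CommRingCat.ofHom (algebraMap W.left.functionField M)) ≫ W.left.fromSpecStalk (genericPoint W.left)
  letI : Algebra k M := (Spec.preimage (w₀ ≫ W.hom)).hom.toAlgebra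
  let w : specOver k M ⟶ W := Over.homMk w₀ (Spec.map_preimage (w₀ ≫ W.hom)).symm
  have hwpt : w.left (IsLocalRing.closedPoint M) = genericPoint W.left := by
    show (W.left.fromSpecStalk (genericPoint W.left)) ((Spec.map (CommRingCat.ofHom
      (algebraMap W.left.functionField M))) (IsLocalRing.closedPoint M)) = _
    exact (congrArg (W.left.fromSpecStalk (genericPoint W.left))
      (Subsingleton.elim (α := PrimeSpectrum W.left.functionField) _ _)).trans Scheme.fromSpecStalk_closedPoint
  have hsurj : ∀ f : W ⟶ X, (∀ {T : Over (Spec (CommRingCat.of k))} (x : T ⟶ X), CartesianMonoidalCategory.lift 1 x ≫ f = x) →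
      ∃ e : R →ₐ[k] M, Function.Injective e ∧ specMap e ≫ iU = w ≫ f := by
    intro f hf
    refine exists_injective_point iU (w ≫ f) ?_
    rw [Over.comp_left, Scheme.Hom.comp_apply, hwpt]
    haveI : Surjective f.left := by
      have e : CartesianMonoidalCategory.lift 1 (𝟙 X) ≫ f = 𝟙 X := hf _
      haveI : Surjective ((CartesianMonoidalCategory.lift 1 (𝟙 X) : X ⟶ W).left ≫ f.left) := by
        rw [← Over.comp_left, e]; exact inferInstanceAs (Surjective (𝟙 X.left))
      exact Surjective.of_comp (CartesianMonoidalCategory.lift 1 (𝟙 X) : X ⟶ W).left f.left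
    have h := (genericPoint_spec W.left).image f.left.continuous
    rw [Set.image_univ, f.left.surjective.range_eq, closure_univ] at h
    exact h.eq (genericPoint_spec X.left)
  obtain ⟨e₁, he₁, hw₁⟩ := hsurj a.act fun x => AlgGrpBasic19.act_one a x
  obtain ⟨e₂, he₂, hw₂⟩ := hsurj (snd A X) fun x => lift_snd _ _
  let b := w ≫ fst A X
  have hb : lift b (specMap e₂ ≫ iU) ≫ a.act = specMap e₁ ≫ iU := by
    rw [hw₂, ← comp_lift, lift_fst_snd, Category.comp_id, hw₁]
  haveI := finite_gpts hpfin hkey e₁ he₁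
  haveI := finite_gpts hpfin hkey e₂ he₂
  haveI : Mono j := Over.mono_of_mono_left j
  have htrans : ∀ (d : specOver k M ⟶ A) (e e' : R →ₐ[k] M), lift d (specMap e ≫ iU) ≫ a.act = specMap e' ≫ iU →
      ∀ c : GPts α β p e, ∃ c' : GPts α β p e', c'.1.comp β = c.1.comp β ∧ pt c'.1 = d * pt c.1 := by
    intro d e e' hd c
    obtain ⟨c', hc'j, hc'α, hc'β⟩ := hlift (lift (d * pt c.1) (specMap c.1 ≫ j ≫ snd A X)) e' (c.1.comp β) (by
      rw [AlgGrpBasic19.act_mul]
      have e2 : lift (pt c.1) (specMap c.1 ≫ j ≫ snd A X) = specMap c.1 ≫ j := by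
        ext1 <;> simp [pt]
      rw [e2, Category.assoc, hjα, ← Category.assoc, specMap_comp, c.2.1, hd]) (by
      rw [lift_snd, hjβ, ← Category.assoc, specMap_comp])
    refine ⟨⟨c', hc'α, by rw [hc'β]; exact c.2.2⟩, hc'β, ?_⟩
    show specMap c' ≫ j ≫ fst A X = _
    rw [← Category.assoc, hc'j, lift_fst]
  have hext : ∀ {e : R →ₐ[k] M} (c c' : GPts α β p e), c.1.comp β = c'.1.comp β → pt c.1 = pt c'.1 → c = c' := by
    intro e c c' h1 h2
    have h3 : specMap c.1 ≫ j = specMap c'.1 ≫ j := by
      refine CartesianMonoidalCategory.hom_ext _ _ (by rw [Category.assoc, Category.assoc]; exact h2) ?_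
      rw [Category.assoc, Category.assoc, hjβ, ← Category.assoc, ← Category.assoc, specMap_comp, specMap_comp, h1]
    exact Subtype.ext (algHomEquiv.symm.injective ((cancel_mono j).1 h3))
  have hb' : lift b⁻¹ (specMap e₁ ≫ iU) ≫ a.act = specMap e₂ ≫ iU := by
    rw [← hb, ← AlgGrpBasic19.act_mul, inv_mul_cancel, AlgGrpBasic19.act_one]
  choose T₁ hT₁β hT₁ using htrans b e₂ e₁ hb
  choose T₂ hT₂β hT₂ using htrans b⁻¹ e₁ e₂ hb'
  let T : GPts α β p e₂ ≃ GPts α β p e₁ :=
    { toFun := T₁, invFun := T₂
      left_inv := fun c => hext _ _ ((hT₂β _).trans (hT₁β _)) (by rw [hT₂, hT₁, inv_mul_cancel_left])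
      right_inv := fun c => hext _ _ ((hT₁β _).trans (hT₂β _)) (by rw [hT₁, hT₂, mul_inv_cancel_left]) }
  have hnrm : nrmC e₁ = b ^ n * nrmC e₂ := by
    show (∏ᶠ c : GPts α β p e₁, pt c.1) = _
    letI := Fintype.ofFinite (GPts α β p e₂)
    letI : CommMonoid (specOver k M ⟶ A) := Hom.commMonoid
    rw [← finprod_comp_equiv T, finprod_eq_prod_of_fintype,
      show n = Fintype.card (GPts α β p e₂) by rw [← Nat.card_eq_fintype_card, (hval e₂ he₂).2]]
    show _ = _ * ∏ᶠ c : GPts α β p e₂, pt c.1
    rw [finprod_eq_prod_of_fintype, ← Finset.card_univ, ← Finset.prod_const, ← Finset.prod_mul_distrib]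
    exact Finset.prod_congr rfl fun c _ => hT₁ c
  have hgen : w ≫ a.act ≫ φ = w ≫ ((snd A X ≫ φ) * fst A X ^ (n * m)) := by
    rw [MonObj.comp_mul, MonObj.comp_pow, ← Category.assoc, ← hw₁, ← Category.assoc w, ← hw₂,
      Category.assoc, Category.assoc, (hval e₁ he₁).1, (hval e₂ he₂).1, hnrm]
    letI : CommMonoid (specOver k M ⟶ A) := Hom.commMonoid
    rw [mul_pow, ← pow_mul, _root_.mul_comm]
  ext1
  haveI : IsDominant w.left := ⟨dense_iff_closure_eq.2 (Set.eq_univ_of_univ_subset (by
    rw [← (genericPoint_spec W.left).def]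
    exact closure_mono (Set.singleton_subset_iff.2 ⟨IsLocalRing.closedPoint M, hwpt⟩)))⟩
  exact ext_of_isDominant_of_isSeparated A.hom (by rw [Over.w, Over.w]) w.left (congrArg CommaMorphism.left hgen)

end Groth.Agent.TorsorNorm25
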