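import Groth.Agent.Lib.TorsorNorm25.Subvar
import Groth.Agent.Lib.Isogeny14.Kernel
import Groth.Agent.Lib.BorelFix21.Stabilizer
import Groth.Agent.Lib.PerfProd19.Basic
import Groth.Agent.Lib.AbRigid.Isogeny

/-!
# An abelian subvariety has an almost complement
-/

set_option autoImplicit false
set_option linter.style.haveILetI false
set_option backward.isDefEq.respectTransparency false
set_option synthInstance.maxHeartbeats 400000

universe u

open CategoryTheory CategoryTheory.Limits MonoidalCategory CartesianMonoidalCategory MonObj AlgebraicGeometry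
open scoped GrpObj

noncomputable section

namespace Groth.Agent.TorsorNorm25

variable {k : Type u} [Field k] {G A : Over (Spec (CommRingCat.of k))} [GrpObj G] [GrpObj A]

/-- The product of two commuting homomorphisms is a homomorphism. -/
theorem isMonHom_mul_of_comm {M : Over (Spec (CommRingCat.of k))} [MonObj M] (p q : M ⟶ G) [IsMonHom p] [IsMonHom q]
    (h : ∀ {T : Over (Spec (CommRingCat.of k))} (x y : T ⟶ M), (x ≫ p) * (y ≫ q) = (y ≫ q) * (x ≫ p)) :
    IsMonHom (p * q) := by
  refine ⟨?_, ?_⟩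
  · rw [MonObj.comp_mul, IsMonHom.one_hom, IsMonHom.one_hom, MonObj.one_eq_one, _root_.one_mul]
  · have e1 : (μ[M] : M ⊗ M ⟶ M) = fst M M * snd M M := by
      rw [Hom.mul_def, lift_fst_snd, Category.id_comp]
    have e2 : ((p * q) ⊗ₘ (p * q)) ≫ μ[G] = (fst M M ≫ (p * q)) * (snd M M ≫ (p * q)) := by
      rw [← lift_fst_comp_snd_comp]; exact (Hom.mul_def _ _).symm
    rw [e1, e2, MonObj.comp_mul, MonObj.mul_comp, MonObj.mul_comp, MonObj.comp_mul, MonObj.comp_mul]
    rw [_root_.mul_assoc, _root_.mul_assoc]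
    congr 1
    rw [← _root_.mul_assoc, ← _root_.mul_assoc, h]

theorem tensorHom_mul_eq {N : Over (Spec (CommRingCat.of k))} (i : A ⟶ G) (j : N ⟶ G) :
    (i ⊗ₘ j) ≫ μ[G] = (fst A N ≫ i) * (snd A N ≫ j) := by
  rw [← lift_fst_comp_snd_comp]; exact (Hom.mul_def _ _).symm

theorem surjective_whiskerLeft {N N' : Over (Spec (CommRingCat.of k))} (r : N ⟶ N') [Surjective r.left] :
    Surjective (A ◁ r).left :=
  MorphismProperty.of_isPullback (P := @Surjective) ((AbRigid.isPullback_whiskerLeft r A).map (Over.forget _)) ‹_›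

set_option maxHeartbeats 1600000 in
/-- An abelian subvariety has a normal almost complement. -/
theorem exists_almostComplement [LocallyOfFiniteType G.hom] [QuasiCompact G.hom] [Smooth G.hom] [ConnectedSpace G.left]
    [IsProper A.hom] [Smooth A.hom] [ConnectedSpace A.left] (i : A ⟶ G) [IsMonHom i] [IsClosedImmersion i.left] :
    ∃ (N : Over (Spec (CommRingCat.of k))) (_ : GrpObj N) (j : N ⟶ G), IsMonHom j ∧ IsClosedImmersion j.left ∧
      AlgGrp.IsNormalHom j ∧
      (∀ (T : Over (Spec (CommRingCat.of k))) (a : T ⟶ A) (n : T ⟶ N), (a ≫ i) * (n ≫ j) = (n ≫ j) * (a ≫ i)) ∧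
      Flat ((i ⊗ₘ j) ≫ μ[G]).left ∧ Surjective ((i ⊗ₘ j) ≫ μ[G]).left ∧
      IsFinite (Limits.pullback.fst i.left j.left ≫ A.hom) ∧
      (PerfectField k → Smooth N.hom) := by
  haveI := AbRigid.geometricallyReduced_of_smooth A.hom
  haveI : GeometricallyIntegral A.hom := AbRigid.geometricallyIntegral_of_connected A
  haveI : GeometricallyConnected A.hom := by
    refine ⟨fun K' _ y W p₁ p₂ hW => ?_⟩
    haveI : AlgebraicGeometry.IsIntegral W := GeometricallyIntegral.geometrically_isIntegral (f := A.hom) y p₁ p₂ hW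
    exact (inferInstance : ConnectedSpace W)
  haveI := AbRigid.geometricallyReduced_of_smooth G.hom
  haveI : GeometricallyIntegral G.hom := AbRigid.geometricallyIntegral_of_connected G
  haveI : AlgebraicGeometry.IsIntegral G.left := GeometricallyIntegral.isIntegral_of_subsingleton G.hom
  haveI : Flat A.hom := QuotField20.flat_hom A
  haveI : IsSeparated G.hom := AbRigid.isSeparated_of_grpObj G
  obtain ⟨φ, n, hn, hφm, hφ⟩ := exists_retraction i
  haveI := hφm
  haveI : LocallyOfFiniteType (φ.left ≫ A.hom) := by rw [Over.w φ]; infer_instance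
  haveI : LocallyOfFiniteType φ.left := locallyOfFiniteType_of_comp φ.left A.hom
  haveI : IsClosedImmersion η[A].left := isClosedImmersion_of_comp_eq_id A.hom η[A].left (Over.w η[A])
  letI := Isogeny14.kerGrp φ
  haveI := Isogeny14.isMonHom_kerIncl φ
  haveI hkc : IsClosedImmersion (Isogeny14.kerIncl φ).left :=
    inferInstanceAs (IsClosedImmersion (pullback.fst φ.left η[A].left))
  have hknorm : ∀ {T : Over (Spec (CommRingCat.of k))} (g : T ⟶ G) (m : T ⟶ Isogeny14.kerOver φ),
      (g * (m ≫ Isogeny14.kerIncl φ) * g⁻¹) ≫ φ = 1 := fun g m => by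
    rw [MonObj.mul_comp, MonObj.mul_comp, Category.assoc, Isogeny14.kerIncl_comp, MonObj.comp_one, _root_.mul_one,
      GrpObj.inv_comp, mul_inv_cancel]
  -- the candidate group
  obtain ⟨N, _, r, hrm, hrc, hrs, hnorm, hsm⟩ : ∃ (N : Over (Spec (CommRingCat.of k))) (_ : GrpObj N)
      (r : N ⟶ Isogeny14.kerOver φ), IsMonHom r ∧ IsClosedImmersion r.left ∧ Surjective r.left ∧
      AlgGrp.IsNormalHom (r ≫ Isogeny14.kerIncl φ) ∧ (PerfectField k → Smooth N.hom) := by
    by_cases hp : PerfectField k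
    · haveI : LocallyOfFiniteType (Isogeny14.kerOver φ).hom := by
        rw [← Over.w (Isogeny14.kerIncl φ)]; infer_instance
      obtain ⟨N, hN, r, hrm, hrc, hrs, hNr, hNs⟩ := BorelFix21.exists_reduced_subgroup (Isogeny14.kerOver φ)
      haveI := hrc; haveI := hrs; haveI := hNr
      haveI : AlgebraicGeometry.IsReduced (G ⊗ N).left := PerfProd19.isReduced_tensorObj G N
      refine ⟨N, hN, r, hrm, hrc, hrs, fun T g m => ?_, fun _ => hNs⟩
      obtain ⟨c, hc⟩ := Isogeny14.exists_kerLift φ _ (hknorm (fst G N) (snd G N ≫ r))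
      obtain ⟨l, hl⟩ := PerfProd19.exists_lift_of_surjective r c
      refine ⟨lift g m ≫ l, ?_⟩
      rw [Category.assoc, ← Category.assoc l, hl, hc, MonObj.comp_mul, MonObj.comp_mul, GrpObj.comp_inv,
        lift_fst, Category.assoc, lift_snd_assoc]
    · haveI : IsIso (𝟙 (Isogeny14.kerOver φ) : Isogeny14.kerOver φ ⟶ _).left :=
        inferInstanceAs (IsIso (𝟙 (Isogeny14.kerOver φ).left))
      refine ⟨_, inferInstance, 𝟙 _, inferInstance, inferInstance, inferInstance, fun T g m => ?_,
        fun h => absurd h hp⟩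
      obtain ⟨c, hc⟩ := Isogeny14.exists_kerLift φ _ (hknorm g m)
      exact ⟨c, by rw [Category.id_comp, hc]⟩
  haveI := hrm; haveI := hrc; haveI := hrs
  let j : N ⟶ G := r ≫ Isogeny14.kerIncl φ
  haveI : IsMonHom j := inferInstanceAs (IsMonHom (r ≫ Isogeny14.kerIncl φ))
  haveI : IsClosedImmersion j.left := inferInstanceAs (IsClosedImmersion (r.left ≫ (Isogeny14.kerIncl φ).left))
  have hjφ : j ≫ φ = 1 := by
    rw [Category.assoc, Isogeny14.kerIncl_comp, MonObj.comp_one]
  haveI hm : IsMonHom ((i ⊗ₘ j) ≫ μ[G]) := by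
    rw [tensorHom_mul_eq]
    refine isMonHom_mul_of_comm _ _ fun x y => ?_
    rw [← Category.assoc x]
    exact central_of_proper i _ _
  -- the powers of the abelian subvariety
  obtain ⟨hpfin, -, hps⟩ := Isogeny14.isFinite_flat_surjective_pow A n hn
  haveI := hpfin; haveI := hps
  haveI hsurj : Surjective ((i ⊗ₘ j) ≫ μ[G]).left := by
    have sq := IsPullback.of_hasPullback φ (𝟙 A ^ n)
    haveI : Surjective (pullback.fst φ (𝟙 A ^ n)).left :=
      MorphismProperty.of_isPullback (P := @Surjective) (sq.map (Over.forget _)).flip hps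
    obtain ⟨d, hd⟩ := Isogeny14.exists_kerLift φ
      ((pullback.snd φ (𝟙 A ^ n) ≫ i)⁻¹ * pullback.fst φ (𝟙 A ^ n)) (by
        rw [MonObj.mul_comp, GrpObj.inv_comp, Category.assoc, hφ, pullback.condition, inv_mul_cancel])
    have he : lift (pullback.snd φ (𝟙 A ^ n)) d ≫ (i ⊗ₘ Isogeny14.kerIncl φ) ≫ μ[G] =
        pullback.fst φ (𝟙 A ^ n) := by
      rw [tensorHom_mul_eq, MonObj.comp_mul, lift_fst_assoc, lift_snd_assoc, hd, mul_inv_cancel_left]
    haveI h1 : Surjective ((i ⊗ₘ Isogeny14.kerIncl φ) ≫ μ[G]).left := by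
      refine @Surjective.of_comp _ _ _ (lift (pullback.snd φ (𝟙 A ^ n)) d).left _ ?_
      rw [← Over.comp_left, he]; infer_instance
    have e : (i ⊗ₘ j) ≫ μ[G] = (A ◁ r) ≫ (i ⊗ₘ Isogeny14.kerIncl φ) ≫ μ[G] := by
      rw [← Category.assoc, whiskerLeft_comp_tensorHom]
    haveI := surjective_whiskerLeft (A := A) r
    rw [e, Over.comp_left]; infer_instance
  refine ⟨N, inferInstance, j, inferInstance, inferInstance, hnorm, fun T a m => central_of_proper i a _,
    AbRigid.flat_of_surjective (A ⊗ N) G _, hsurj, ?_, hsm⟩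
  -- finiteness of the intersection
  let W : Over (Spec (CommRingCat.of k)) := Over.mk (pullback.fst i.left j.left ≫ A.hom)
  let a : W ⟶ A := Over.homMk (pullback.fst i.left j.left) rfl
  let b : W ⟶ N := Over.homMk (pullback.snd i.left j.left) (by
    show pullback.snd i.left j.left ≫ N.hom = pullback.fst i.left j.left ≫ A.hom
    rw [← Over.w j, ← pullback.condition_assoc, Over.w i])
  have hab : a ≫ i = b ≫ j := Over.OverMorphism.ext pullback.condition
  obtain ⟨a', ha'⟩ := Isogeny14.exists_kerLift (𝟙 A ^ n) a (by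
    rw [← hφ, ← Category.assoc, hab, Category.assoc, hjφ, MonObj.comp_one])
  haveI : IsClosedImmersion (Isogeny14.kerIncl (𝟙 A ^ n)).left :=
    inferInstanceAs (IsClosedImmersion (pullback.fst (𝟙 A ^ n).left η[A].left))
  haveI : IsClosedImmersion a.left := inferInstanceAs (IsClosedImmersion (pullback.fst i.left j.left))
  haveI : IsClosedImmersion (a'.left ≫ (Isogeny14.kerIncl (𝟙 A ^ n)).left) := by
    rw [← Over.comp_left, ha']; infer_instance
  haveI : IsClosedImmersion a'.left := IsClosedImmersion.of_comp_isClosedImmersion a'.left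
    (Isogeny14.kerIncl (𝟙 A ^ n)).left
  haveI : IsFinite (Isogeny14.kerOver (𝟙 A ^ n)).hom :=
    MorphismProperty.of_isPullback (P := @IsFinite) (IsPullback.of_hasPullback (𝟙 A ^ n).left η[A].left) hpfin
  show IsFinite W.hom
  rw [← Over.w a']
  infer_instance

end Groth.Agent.TorsorNorm25
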