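import Mathlib.FieldTheory.IsSepClosed
import Mathlib.FieldTheory.Galois.Infinite
import Mathlib.AlgebraicGeometry.ResidueField

/-!
# Points fixed by the Galois group, and embeddings into separable closures
-/

set_option autoImplicit false
set_option linter.style.haveILetI false
set_option backward.isDefEq.respectTransparency false

universe u

open CategoryTheory AlgebraicGeometry Polynomial

namespace Groth.Agent.TorsorNorm25

/-- An embedding of a separable extension into a bigger field comes from a separably closed subfield. -/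
theorem exists_comp_eq {F L Ω Ω' : Type u} [Field F] [Field L] [Algebra F L] [Algebra.IsSeparable F L]
    [Field Ω] [IsSepClosed Ω] [Field Ω'] (iΩ : F →+* Ω) (ω : Ω →+* Ω') (r' : L →+* Ω')
    (hr' : r'.comp (algebraMap F L) = ω.comp iΩ) :
    ∃ r : L →+* Ω, r.comp (algebraMap F L) = iΩ ∧ ω.comp r = r' := by
  have hmem : ∀ l : L, r' l ∈ ω.range := by
    intro l
    have hs : (minpoly F l).Separable := Algebra.IsSeparable.isSeparable F l
    have hsp : ((minpoly F l).map iΩ).Splits :=
      IsSepClosed.splits_codomain (f := iΩ) _ hs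
    have hne : (minpoly F l).map iΩ ≠ 0 :=
      Polynomial.map_ne_zero (minpoly.ne_zero (Algebra.IsSeparable.isIntegral F l))
    refine Polynomial.Splits.mem_range_of_isRoot hsp hne ?_
    rw [Polynomial.map_map, ← hr', Polynomial.IsRoot, Polynomial.eval_map, ← Polynomial.hom_eval₂,
      show eval₂ (algebraMap F L) l (minpoly F l) = 0 from minpoly.aeval F l, map_zero]
  choose r hr using hmem
  have hinj : Function.Injective ω := ω.injective
  refine ⟨{ toFun := r, map_one' := hinj (by rw [hr, map_one, map_one]),
            map_mul' := fun a b => hinj (by rw [hr, map_mul, map_mul, hr, hr]),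
            map_zero' := hinj (by rw [hr, map_zero, map_zero]),
            map_add' := fun a b => hinj (by rw [hr, map_add, map_add, hr, hr]) }, ?_, ?_⟩
  · ext c
    refine hinj ?_
    show ω (r (algebraMap F L c)) = _
    rw [hr]
    exact RingHom.congr_fun hr' c
  · ext l
    exact hr l

/-- A point over a separable closure which is fixed by the Galois group is rational. -/
theorem exists_descend_point {E Ω : Type u} [Field E] [Field Ω] [Algebra E Ω] [IsGalois E Ω] {A : Scheme.{u}}
    (v : Spec (CommRingCat.of Ω) ⟶ A)
    (hv : ∀ σ : Gal(Ω/E), Spec.map (CommRingCat.ofHom (σ : Ω →+* Ω)) ≫ v = v) :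
    ∃ v₀ : Spec (CommRingCat.of E) ⟶ A, Spec.map (CommRingCat.ofHom (algebraMap E Ω)) ≫ v₀ = v := by
  obtain ⟨⟨a, φ⟩, rfl⟩ := (Scheme.SpecToEquivOfField Ω A).symm.surjective v
  change ∀ σ : Gal(Ω/E), _ ≫ Spec.map φ ≫ A.fromSpecResidueField a = Spec.map φ ≫ A.fromSpecResidueField a at hv
  have hfix : ∀ (σ : Gal(Ω/E)) (z : A.residueField a), σ (φ z) = φ z := by
    intro σ z
    have h1 := hv σ
    rw [← Category.assoc, ← Spec.map_comp] at h1
    have h2 : φ ≫ CommRingCat.ofHom (σ : Ω →+* Ω) = φ :=
      Spec.map_injective ((cancel_mono (A.fromSpecResidueField a)).1 h1)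
    exact ConcreteCategory.congr_hom h2 z
  have hrange : ∀ z : A.residueField a, φ z ∈ (algebraMap E Ω).range := fun z =>
    (InfiniteGalois.mem_range_algebraMap_iff_fixed _).2 fun σ => hfix σ z
  choose ψ hψ using hrange
  have hinj : Function.Injective (algebraMap E Ω) := (algebraMap E Ω).injective
  let ψ' : A.residueField a →+* E :=
    { toFun := ψ, map_one' := hinj (by rw [hψ, map_one, map_one])
      map_mul' := fun x y => hinj (by rw [hψ, map_mul, map_mul, hψ, hψ])
      map_zero' := hinj (by rw [hψ, map_zero, map_zero])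
      map_add' := fun x y => hinj (by rw [hψ, map_add, map_add, hψ, hψ]) }
  refine ⟨Spec.map (CommRingCat.ofHom ψ') ≫ A.fromSpecResidueField a, ?_⟩
  show _ = Spec.map φ ≫ A.fromSpecResidueField a
  rw [← Category.assoc, ← Spec.map_comp]
  congr 2
  ext z
  exact hψ z

end Groth.Agent.TorsorNorm25
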