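import Groth.Agent.Lib.WeilRes21.KernelGen
import Groth.Agent.Lib.WeilRes21.Unit
import Mathlib.FieldTheory.PurelyInseparable.Basic
import Mathlib.FieldTheory.IsAlgClosed.Basic
import Mathlib.AlgebraicGeometry.Morphisms.FiniteType

/-!
# A point fixed by all automorphisms descends up to a power
-/

set_option autoImplicit false
set_option linter.style.haveILetI false
set_option backward.isDefEq.respectTransparency false

universe u

open CategoryTheory CategoryTheory.Limits MonoidalCategory CartesianMonoidalCategory MonObj AlgebraicGeometry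
open TensorProduct

noncomputable section

namespace Groth.Agent.TorsorNorm25

open WeilRes21

variable {k : Type u} [Field k] {A : Over (Spec (CommRingCat.of k))}

/-- A point with values in a field factors through an affine open. -/
theorem exists_chart [LocallyOfFiniteType A.hom] {M : Type u} [Field M] [Algebra k M] (v : specOver k M ⟶ A) :
    ∃ (B : Type u) (_ : CommRing B) (_ : Algebra k B) (_ : Algebra.FiniteType k B) (iU : specOver k B ⟶ A)
      (_ : IsOpenImmersion iU.left) (ψ : B →ₐ[k] M), specMap ψ ≫ iU = v := by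
  obtain ⟨U, hU, hxU, -⟩ := exists_isAffineOpen_mem_and_subset (X := A.left)
    (x := v.left (IsLocalRing.closedPoint M)) (U := ⊤) trivial
  let W : Over (Spec (CommRingCat.of k)) := Over.mk (U.ι ≫ A.hom)
  haveI : IsAffine W.left := hU
  obtain ⟨B, _, _, ⟨j⟩⟩ := exists_iso_specOver W
  let iU : specOver k B ⟶ A := j.inv ≫ Over.homMk U.ι rfl
  haveI : IsIso j.inv.left := inferInstanceAs (IsIso ((Over.forget _).map j.inv))
  haveI : IsOpenImmersion iU.left := inferInstanceAs (IsOpenImmersion (j.inv.left ≫ U.ι))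
  haveI : Algebra.FiniteType k B := by
    haveI : LocallyOfFiniteType (specOver k B).hom := by rw [← Over.w iU]; infer_instance
    exact finiteType_of_locallyOfFiniteType (Iso.refl (specOver k B))
  have hr : Set.range v.left ⊆ Set.range iU.left := by
    rintro _ ⟨P, rfl⟩
    haveI : Subsingleton (specOver k M).left := inferInstanceAs (Subsingleton (PrimeSpectrum M))
    obtain ⟨w, hw⟩ : v.left P ∈ Set.range U.ι := by
      rw [Scheme.Opens.range_ι, Subsingleton.elim P (IsLocalRing.closedPoint M)]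
      exact hxU
    refine ⟨j.hom.left w, ?_⟩
    exact (congrArg (fun m : W ⟶ A => m.left w) (j.hom_inv_id_assoc (Over.homMk U.ι rfl))).trans hw
  let g : specOver k M ⟶ specOver k B := Over.homMk (IsOpenImmersion.lift iU.left v.left hr) (by
    rw [← Over.w iU, IsOpenImmersion.lift_fac_assoc]
    exact Over.w v)
  refine ⟨B, _, _, inferInstance, iU, inferInstance, algHomEquiv g, ?_⟩
  rw [← algHomEquiv_symm_apply, Equiv.symm_apply_apply]
  ext : 1
  exact IsOpenImmersion.lift_fac _ _ hr

variable [GrpObj A]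

/-- A point over a purely inseparable extension descends up to a power. -/
theorem exists_pow_descend_insep [IsCommMonObj A] [LocallyOfFiniteType A.hom] {E L : Type u} [Field E] [Field L]
    [Algebra k E] [Algebra k L] [Algebra E L] [IsScalarTower k E L] [Module.Finite E L] [IsPurelyInseparable E L]
    (w : specOver k L ⟶ A) :
    ∃ m, 0 < m ∧ ∃ v₀ : specOver k E ⟶ A, specMap (IsScalarTower.toAlgHom k E L) ≫ v₀ = w ^ m := by
  let C := L ⊗[E] L
  let l₁ : L →ₐ[k] C := (Algebra.TensorProduct.includeLeft : L →ₐ[E] C).restrictScalars k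
  let l₂ : L →ₐ[k] C := (Algebra.TensorProduct.includeRight : L →ₐ[E] C).restrictScalars k
  let d : C →ₐ[k] L := ((diag (B := E) : C →ₐ[L] L)).restrictScalars k
  have hd₁ : d.comp l₁ = AlgHom.id k L := AlgHom.ext fun c => by simp [d, l₁, C]
  have hd₂ : d.comp l₂ = AlgHom.id k L := AlgHom.ext fun c => by simp [d, l₂, C]
  letI : CommGroup (specOver k C ⟶ A) := Hom.commGroup
  obtain ⟨M, hM, hMw⟩ : ∃ M : ℕ, 0 < M ∧ (specMap l₁ ≫ w) ^ M = (specMap l₂ ≫ w) ^ M := by
    by_cases h0 : ringChar k = 0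
    · haveI : CharZero k := ringChar.of_eq h0 |> fun h => @CharP.charP_to_charZero k _ h
      haveI : CharZero E := charZero_of_injective_algebraMap (algebraMap k E).injective
      have hsur : Function.Surjective (algebraMap E L) := IsPurelyInseparable.surjective_algebraMap_of_isSeparable E L
      refine ⟨1, Nat.one_pos, ?_⟩
      have hl : l₁ = l₂ := AlgHom.ext fun c => by
        obtain ⟨e, rfl⟩ := hsur c
        exact Algebra.TensorProduct.tmul_one_eq_one_tmul e
      rw [hl]
    · set p := ringChar k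
      haveI : CharP k p := ringChar.charP k
      have hp : (p : C) = 0 := by rw [← map_natCast (algebraMap k C), CharP.cast_eq_zero, map_zero]
      obtain ⟨N, hN⟩ := isNilpotent_ker_diag (k := E) (k' := L) L
      obtain ⟨B, _, _, iU, _, ε, hε⟩ := exists_open_nhd_one A
      set I : Ideal C := RingHom.ker (diag (B := E) : C →ₐ[L] L).toRingHom
      have hx : specMap d ≫ (specMap l₁ ≫ w * (specMap l₂ ≫ w)⁻¹) = 1 := by
        rw [MonObj.comp_mul, GrpObj.comp_inv, ← Category.assoc, ← Category.assoc, specMap_comp, specMap_comp,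
          hd₁, hd₂, mul_inv_cancel]
      have hq : Ideal.Quotient.mkₐ k I = ((Ideal.Quotient.mkₐ k I).comp l₂).comp d := AlgHom.ext fun c => by
        show Ideal.Quotient.mk I c = Ideal.Quotient.mk I (l₂ (d c))
        rw [Ideal.Quotient.eq]
        show d (c - l₂ (d c)) = 0
        rw [map_sub, ← AlgHom.comp_apply d l₂, hd₂, AlgHom.id_apply, sub_self]
      refine ⟨p ^ N, pow_pos (Nat.pos_of_ne_zero h0) N, ?_⟩
      have := pow_eq_one_of_nilpotent hε p hp I N hN (specMap l₁ ≫ w * (specMap l₂ ≫ w)⁻¹) (by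
        rw [hq, ← specMap_comp, Category.assoc, hx, MonObj.comp_one])
      rwa [mul_pow, inv_pow, mul_inv_eq_one] at this
  refine ⟨M, hM, ?_⟩
  obtain ⟨B, _, _, _, iU, _, ψ, hψ⟩ := exists_chart (w ^ M)
  have h12 : l₁.comp ψ = l₂.comp ψ := openPt_injective (iU := iU) (by
    rw [← specMap_comp, ← specMap_comp, Category.assoc, Category.assoc, hψ, MonObj.comp_pow, MonObj.comp_pow, hMw])
  have hmem : ∀ b, ψ b ∈ (IsScalarTower.toAlgHom k E L).range := fun b => by
    obtain ⟨f₀, hf₀⟩ := Module.Projective.exists_dual_ne_zero E (one_ne_zero : (1 : L) ≠ 0)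
    let f : L →ₗ[E] E := (f₀ 1)⁻¹ • f₀
    have hf : f 1 = 1 := inv_mul_cancel₀ hf₀
    have h := congrArg (fun z : C => TensorProduct.rid E L (LinearMap.lTensor L f z))
      (show ψ b ⊗ₜ[E] (1 : L) = (1 : L) ⊗ₜ ψ b from AlgHom.congr_fun h12 b)
    simp only [LinearMap.lTensor_tmul, TensorProduct.rid_tmul, hf, one_smul] at h
    exact ⟨f (ψ b), (Algebra.algebraMap_eq_smul_one _).trans h.symm⟩
  choose ψ₀ hψ₀ using hmem
  let φ : B →ₐ[k] E :=
    { toFun := ψ₀
      map_one' := (algebraMap E L).injective (by simp [← map_one ψ, ← hψ₀])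
      map_mul' := fun x y => (algebraMap E L).injective (by
        rw [map_mul]; exact (hψ₀ _).trans ((map_mul ψ x y).trans (congrArg₂ _ (hψ₀ x).symm (hψ₀ y).symm)))
      map_zero' := (algebraMap E L).injective (by simp [← map_zero ψ, ← hψ₀])
      map_add' := fun x y => (algebraMap E L).injective (by
        rw [map_add]; exact (hψ₀ _).trans ((map_add ψ x y).trans (congrArg₂ _ (hψ₀ x).symm (hψ₀ y).symm)))
      commutes' := fun c => (algebraMap E L).injective (by
        rw [← IsScalarTower.algebraMap_apply]; exact (hψ₀ _).trans (ψ.commutes c)) }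
  refine ⟨specMap φ ≫ iU, ?_⟩
  rw [← Category.assoc, specMap_comp, show (IsScalarTower.toAlgHom k E L).comp φ = ψ from AlgHom.ext hψ₀, hψ]

/-- A point fixed by all automorphisms of an algebraically closed extension descends up to a power. -/
theorem exists_pow_descend [IsCommMonObj A] [LocallyOfFiniteType A.hom] {E Ω : Type u} [Field E] [Field Ω]
    [Algebra k E] [Algebra k Ω] [Algebra E Ω] [IsScalarTower k E Ω] [IsAlgClosed Ω] [Algebra.IsAlgebraic E Ω]
    (v : specOver k Ω ⟶ A) (hv : ∀ σ : Ω ≃ₐ[E] Ω, specMap ((σ : Ω →ₐ[E] Ω).restrictScalars k) ≫ v = v) :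
    ∃ m, 0 < m ∧ ∃ v₀ : specOver k E ⟶ A, specMap (IsScalarTower.toAlgHom k E Ω) ≫ v₀ = v ^ m := by
  obtain ⟨B, _, _, hBft, iU, _, ψ, hψ⟩ := exists_chart v
  obtain ⟨s, hs⟩ := hBft.out
  have hfix : ∀ (σ : Ω ≃ₐ[E] Ω) (b : B), σ (ψ b) = ψ b := fun σ b => by
    have h : ((σ : Ω →ₐ[E] Ω).restrictScalars k).comp ψ = ψ := openPt_injective (iU := iU) (by
      rw [← specMap_comp, Category.assoc, hψ, hv])
    exact AlgHom.congr_fun h b
  let L : IntermediateField E Ω := IntermediateField.adjoin E (ψ '' (s : Set B))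
  haveI : Finite (ψ '' (s : Set B)) := (s.finite_toSet.image ψ).to_subtype
  haveI : FiniteDimensional E L := IntermediateField.finiteDimensional_adjoin fun x _ => Algebra.IsIntegral.isIntegral x
  have hL : ∀ (σ : Ω ≃ₐ[E] Ω) (x : L), σ x.1 = x.1 := by
    intro σ x
    have h : L ≤ IntermediateField.fixedField (Subgroup.zpowers σ) := IntermediateField.adjoin_le_iff.2 (by
      rintro _ ⟨b, -, rfl⟩ ⟨g, hg⟩
      exact hfix g b)
    exact h x.2 ⟨σ, Subgroup.mem_zpowers σ⟩
  haveI : IsPurelyInseparable E L := by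
    rw [isPurelyInseparable_iff_finSepDegree_eq_one, Field.finSepDegree_eq_of_isAlgClosed E L Ω,
      Nat.card_eq_one_iff_unique]
    refine ⟨⟨fun f g => ?_⟩, ⟨L.val⟩⟩
    suffices h : ∀ f : L →ₐ[E] Ω, f = L.val from (h f).trans (h g).symm
    intro f
    obtain ⟨τ, hτ⟩ : ∃ τ : Ω →ₐ[E] Ω, τ.comp L.val = f :=
      IntermediateField.exists_algHom_of_splits
      (fun x => ⟨Algebra.IsIntegral.isIntegral x, IsAlgClosed.splits _⟩) f
    refine AlgHom.ext fun x => ?_
    rw [← hτ, AlgHom.comp_apply]
    exact hL (AlgEquiv.ofBijective τ (Algebra.IsAlgebraic.algHom_bijective τ)) x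
  have hmem : ∀ b, ψ b ∈ L := fun b => by
    have hle : (Algebra.adjoin k (s : Set B)).map ψ ≤ L.toSubalgebra.restrictScalars k := by
      rw [AlgHom.map_adjoin]
      exact Algebra.adjoin_le (IntermediateField.subset_adjoin E _)
    exact hle ⟨b, hs.ge trivial, rfl⟩
  let ψ' : B →ₐ[k] L := AlgHom.codRestrict ψ (L.toSubalgebra.restrictScalars k) hmem
  obtain ⟨m, hm, v₀, hv₀⟩ := exists_pow_descend_insep (k := k) (E := E) (L := L) (specMap ψ' ≫ iU)
  refine ⟨m, hm, v₀, ?_⟩
  have e : IsScalarTower.toAlgHom k E Ω = (L.val.restrictScalars k).comp (IsScalarTower.toAlgHom k E L) :=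
    AlgHom.ext fun _ => rfl
  rw [e, ← specMap_comp, Category.assoc, hv₀, MonObj.comp_pow, ← Category.assoc, specMap_comp,
    show (L.val.restrictScalars k).comp ψ' = ψ from AlgHom.ext fun _ => rfl, hψ]

end Groth.Agent.TorsorNorm25
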