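import Groth.Agent.Lib.TorsorNorm25.Main
import Groth.Agent.Lib.AbRigid.Connected
import Groth.Agent.Lib.AbRigid.Maximal
import Groth.Agent.Lib.Rigid19.AntiAffine
import Groth.Agent.Lib.RigidRel.AbSch
import Groth.Agent.Lib.RatMapAV.Hom
import Groth.Agent.S3030

/-!
# Abelian subvarieties are direct factors up to isogeny
-/

set_option autoImplicit false
set_option linter.style.haveILetI false
set_option backward.isDefEq.respectTransparency false
set_option synthInstance.maxHeartbeats 400000

universe u

open CategoryTheory CategoryTheory.Limits MonoidalCategory CartesianMonoidalCategory MonObj AlgebraicGeometry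
open scoped GrpObj

noncomputable section

namespace Groth.Agent.TorsorNorm25

variable {k : Type u} [Field k] {G A : Over (Spec (CommRingCat.of k))} [GrpObj G] [GrpObj A]

/-- An abelian subvariety is central. -/
theorem central_of_proper [IsProper A.hom] [GeometricallyIntegral A.hom] [LocallyOfFiniteType G.hom]
    [ConnectedSpace G.left] (i : A ⟶ G) [IsMonHom i] {T : Over (Spec (CommRingCat.of k))} (a : T ⟶ A) (g : T ⟶ G) :
    (a ≫ i) * g = g * (a ≫ i) := by
  haveI : QuasiSeparated A.hom := inferInstance
  haveI : GeometricallyIrreducible A.hom := inferInstance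
  haveI : GeometricallyConnected A.hom := by
    refine ⟨fun K' _ y W p₁ p₂ hW => ?_⟩
    haveI : AlgebraicGeometry.IsIntegral W := GeometricallyIntegral.geometrically_isIntegral (f := A.hom) y p₁ p₂ hW
    exact (inferInstance : ConnectedSpace W)
  refine Rigid19.central ?_ i a g
  rw [CommRingCat.hom_comp]
  exact (RigidRel.h0_of_geometrically A.hom ⊤ (isAffineOpen_top _)).comp
    (ConcreteCategory.bijective_of_isIso (Scheme.ΓSpecIso (CommRingCat.of k)).inv)

set_option maxHeartbeats 1600000 in
/-- An abelian subvariety of a connected smooth group has a retraction up to multiplication by an integer. -/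
theorem exists_retraction [LocallyOfFiniteType G.hom] [QuasiCompact G.hom] [Smooth G.hom] [ConnectedSpace G.left]
    [IsProper A.hom] [Smooth A.hom] [GeometricallyIntegral A.hom]
    (i : A ⟶ G) [IsMonHom i] [IsClosedImmersion i.left] :
    ∃ (φ : G ⟶ A) (n : ℕ), 0 < n ∧ IsMonHom φ ∧ i ≫ φ = 𝟙 A ^ n := by
  haveI := isCommMonObj_of_isProper_of_geometricallyIntegral A
  haveI := AbRigid.geometricallyReduced_of_smooth G.hom
  haveI : GeometricallyIntegral G.hom := AbRigid.geometricallyIntegral_of_connected G
  haveI : IsSeparated G.hom := AbRigid.isSeparated_of_grpObj G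
  haveI : Flat A.hom := QuotField20.flat_hom A
  haveI : Flat G.hom := QuotField20.flat_hom G
  haveI : Mono i := Over.mono_of_mono_left _
  have hnorm : AlgGrp.IsNormalHom i := fun T g m => ⟨m, by rw [← central_of_proper i m g, mul_inv_cancel_right]⟩
  obtain ⟨Q, _, p, hpm, hpfl, hps, hplfp, hk, hsep, hQfl, hQsm⟩ := Groth.Agent.S3030.result k A G i hnorm
  haveI := hpm; haveI := hpfl; haveI := hps; haveI := hplfp; haveI := hsep
  haveI : Smooth Q.hom := hQsm inferInstance
  haveI : ConnectedSpace Q.left :=
    Function.Surjective.connectedSpace p.left.surjective p.left.continuous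
  haveI := AbRigid.geometricallyReduced_of_smooth Q.hom
  haveI : GeometricallyIntegral Q.hom := AbRigid.geometricallyIntegral_of_connected Q
  haveI : AlgebraicGeometry.IsIntegral Q.left := GeometricallyIntegral.isIntegral_of_subsingleton Q.hom
  haveI : QuasiCompact (p.left ≫ Q.hom) := by rw [Over.w p]; infer_instance
  haveI : QuasiCompact p.left := QuasiCompact.of_comp p.left Q.hom
  let act : AlgGrp.Action A G :=
    { act := (fst A G ≫ i) * snd A G
      one_act := by
        rw [MonObj.comp_mul, whiskerRight_fst_assoc, whiskerRight_snd, IsMonHom.one_hom (f := i), MonObj.one_eq_one,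
          MonObj.comp_one, _root_.one_mul, leftUnitor_hom]
      mul_act := by
        simp only [MonObj.comp_mul, whiskerRight_fst_assoc, whiskerRight_snd, whiskerLeft_fst_assoc,
          whiskerLeft_snd, associator_hom_fst_assoc, associator_hom_snd_fst_assoc, associator_hom_snd_snd]
        rw [show μ[A] = fst A A * snd A A by rw [Hom.mul_def, lift_fst_snd, Category.id_comp]]
        simp only [MonObj.comp_mul, MonObj.mul_comp, Category.assoc, associator_hom_snd_fst_assoc,
          associator_hom_snd_snd, _root_.mul_assoc] }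
  have hsq : IsPullback act.act (snd A G) p p := by
    have w : act.act ≫ p = snd A G ≫ p := by
      show ((fst A G ≫ i) * snd A G) ≫ p = _
      rw [MonObj.mul_comp, Category.assoc, hk.w, MonObj.one_eq_one, MonObj.comp_one, MonObj.comp_one, _root_.one_mul]
    have hker : ∀ (s : PullbackCone p p), (s.fst * s.snd⁻¹) ≫ p = 1 := fun s => by
      rw [MonObj.mul_comp, GrpObj.inv_comp, s.condition, mul_inv_cancel]
    let d : ∀ s : PullbackCone p p, s.pt ⟶ A := fun s =>
      hk.lift (s.fst * s.snd⁻¹) (toUnit _) (by rw [hker, Hom.one_def])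
    have hd : ∀ s, d s ≫ i = s.fst * s.snd⁻¹ := fun s => hk.lift_fst _ _ _
    refine IsPullback.of_isLimit' ⟨w⟩ (PullbackCone.IsLimit.mk _ (fun s => lift (d s) s.snd) (fun s => ?_)
      (fun s => lift_snd _ _) fun s m hm₁ hm₂ => ?_)
    · show lift (d s) s.snd ≫ ((fst A G ≫ i) * snd A G) = s.fst
      rw [MonObj.comp_mul, lift_fst_assoc, lift_snd, hd, inv_mul_cancel_right]
    · change m ≫ ((fst A G ≫ i) * snd A G) = s.fst at hm₁
      change m ≫ snd A G = s.snd at hm₂
      refine CartesianMonoidalCategory.hom_ext _ _ ?_ (by rw [lift_snd, hm₂])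
      rw [lift_fst, ← cancel_mono i, hd, Category.assoc]
      rw [MonObj.comp_mul, hm₂] at hm₁
      rw [← hm₁, mul_inv_cancel_right]
  obtain ⟨φ, n, hn, hφ⟩ := exists_norm act p hsq
  let c : 𝟙_ (Over (Spec (CommRingCat.of k))) ⟶ A := η[G] ≫ φ
  let ψ : G ⟶ A := φ * (toUnit G ≫ c)⁻¹
  have hone : η[G] ≫ ψ = η[A] := by
    rw [MonObj.comp_mul, GrpObj.comp_inv, ← Category.assoc η[G] (toUnit G), toUnit_unique (η[G] ≫ toUnit G) (𝟙 _),
      Category.id_comp, mul_inv_cancel, MonObj.one_eq_one]
  refine ⟨ψ, n, hn, RatMapAV.isMonHom_of_smooth G A ψ hone, ?_⟩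
  have h := congrArg (lift (𝟙 A) (toUnit A ≫ η[G]) ≫ ·) hφ
  simp only [MonObj.comp_mul, MonObj.comp_pow, lift_fst, lift_snd_assoc, Category.assoc] at h
  have e : lift (𝟙 A) (toUnit A ≫ η[G]) ≫ act.act = i := by
    show lift (𝟙 A) (toUnit A ≫ η[G]) ≫ ((fst A G ≫ i) * snd A G) = i
    rw [MonObj.comp_mul, lift_fst_assoc, lift_snd, Category.id_comp, ← Hom.one_def, _root_.mul_one]
  rw [← Category.assoc, e] at h
  show i ≫ (φ * (toUnit G ≫ c)⁻¹) = _
  rw [MonObj.comp_mul, GrpObj.comp_inv, h, ← Category.assoc i (toUnit G), comp_toUnit, _root_.mul_comm (toUnit A ≫ η[G] ≫ φ),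
    mul_inv_cancel_right]

end Groth.Agent.TorsorNorm25
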